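import Mathlib

set_option autoImplicit false

open scoped commutatorElement

namespace Cfsg.Agent.Lib.Helper1.Ward

variable {G : Type*} [Group G]

theorem nmem {S : Subgroup G} {g y : G} (hg : g ∈ Subgroup.normalizer (S : Set G)) (hy : y ∈ S) :
    g * y * g⁻¹ ∈ S := (Subgroup.mem_normalizer_iff.mp hg y).mp hy

theorem nmem' {S : Subgroup G} {g y : G} (hg : g ∈ Subgroup.normalizer (S : Set G)) (hy : y ∈ S) :
    g⁻¹ * y * g ∈ S := by
  have h := nmem (inv_mem hg) hy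
  simpa using h

def stabMod (S K : Subgroup G) : Subgroup G where
  carrier := {g | g ∈ Subgroup.normalizer (S : Set G) ∧ ∀ y ∈ S, y⁻¹ * (g * y * g⁻¹) ∈ K}
  one_mem' := ⟨one_mem _, fun y _ => by simp⟩
  mul_mem' := by
    rintro g h ⟨hg, hg'⟩ ⟨hh, hh'⟩
    refine ⟨mul_mem hg hh, fun y hy => ?_⟩
    have hk : y⁻¹ * (h * y * h⁻¹) ∈ S := mul_mem (inv_mem hy) (nmem hh hy)
    have h1 := hg' y hy
    have h2 := hh' y hy
    have h3 := hg' _ hk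
    have e : y⁻¹ * (g * h * y * (g * h)⁻¹) =
        y⁻¹ * (g * y * g⁻¹) * (y⁻¹ * (h * y * h⁻¹)) *
          ((y⁻¹ * (h * y * h⁻¹))⁻¹ * (g * (y⁻¹ * (h * y * h⁻¹)) * g⁻¹)) := by group
    rw [e]
    exact mul_mem (mul_mem h1 h2) h3
  inv_mem' := by
    rintro g ⟨hg, hg'⟩
    refine ⟨inv_mem hg, fun y hy => ?_⟩
    have hy' : g⁻¹ * y * g ∈ S := nmem' hg hy
    have h1 := inv_mem (hg' _ hy')
    have e : y⁻¹ * (g⁻¹ * y * g⁻¹⁻¹) = ((g⁻¹ * y * g)⁻¹ * (g * (g⁻¹ * y * g) * g⁻¹))⁻¹ := by group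
    rw [e]
    exact h1

theorem mem_stabMod {S K : Subgroup G} {g : G} :
    g ∈ stabMod S K ↔ g ∈ Subgroup.normalizer (S : Set G) ∧ ∀ y ∈ S, y⁻¹ * (g * y * g⁻¹) ∈ K :=
  Iff.rfl

theorem stabMod_mono (S : Subgroup G) {K K' : Subgroup G} (h : K ≤ K') :
    stabMod S K ≤ stabMod S K' :=
  fun _ hg => ⟨hg.1, fun y hy => h (hg.2 y hy)⟩

theorem stabMod_le_normalizer (S K : Subgroup G) :
    stabMod S K ≤ Subgroup.normalizer (S : Set G) :=
  fun _ hg => hg.1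

theorem comm_mem_of_mem_stabMod {S K : Subgroup G} {g y : G} (hg : g ∈ stabMod S K) (hy : y ∈ S) :
    ⁅y, g⁆ ∈ K := by
  have h := hg.2 _ (inv_mem hy)
  have e : ⁅y, g⁆ = y⁻¹⁻¹ * (g * y⁻¹ * g⁻¹) := by
    rw [commutatorElement_def]; group
  rw [e]; exact h

theorem commutator_le_of_le_stabMod {S K E : Subgroup G} (h : E ≤ stabMod S K) : ⁅S, E⁆ ≤ K := by
  rw [Subgroup.commutator_le]
  intro y hy g hg
  exact comm_mem_of_mem_stabMod (h hg) hy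

theorem le_stabMod_of_commutator_le {S K E : Subgroup G}
    (hE : E ≤ Subgroup.normalizer (S : Set G)) (h : ⁅S, E⁆ ≤ K) : E ≤ stabMod S K := by
  intro g hg
  refine ⟨hE hg, fun y hy => ?_⟩
  have h1 : ⁅y⁻¹, g⁆ ∈ ⁅S, E⁆ := Subgroup.commutator_mem_commutator (inv_mem hy) hg
  have e : ⁅y⁻¹, g⁆ = y⁻¹ * (g * y * g⁻¹) := by
    rw [commutatorElement_def]; group
  rw [← e]; exact h h1

theorem stabMod_conj {S X U : Subgroup G} {x g : G}
    (hx : x ∈ Subgroup.normalizer (S : Set G)) (hU : ∀ u ∈ U, x⁻¹ * u * x ∈ X)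
    (hg : g ∈ stabMod S (S ⊓ Subgroup.centralizer (X : Set G))) :
    x * g * x⁻¹ ∈ stabMod S (S ⊓ Subgroup.centralizer (U : Set G)) := by
  have hgn := hg.1
  have hxg : x * g * x⁻¹ ∈ Subgroup.normalizer (S : Set G) := mul_mem (mul_mem hx hgn) (inv_mem hx)
  refine ⟨hxg, fun y hy => ?_⟩
  refine Subgroup.mem_inf.mpr ⟨mul_mem (inv_mem hy) (nmem hxg hy), ?_⟩
  rw [Subgroup.mem_centralizer_iff]
  intro u hu
  have hy' : x⁻¹ * y * x ∈ S := nmem' hx hy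
  have h1 : (x⁻¹ * y * x)⁻¹ * (g * (x⁻¹ * y * x) * g⁻¹) ∈ Subgroup.centralizer (X : Set G) :=
    (Subgroup.mem_inf.mp (hg.2 _ hy')).2
  rw [Subgroup.mem_centralizer_iff] at h1
  have h2 := h1 _ (hU u hu)
  have e1 : u * (y⁻¹ * (x * g * x⁻¹ * y * (x * g * x⁻¹)⁻¹)) =
      x * (x⁻¹ * u * x * ((x⁻¹ * y * x)⁻¹ * (g * (x⁻¹ * y * x) * g⁻¹))) * x⁻¹ := by group
  have e2 : y⁻¹ * (x * g * x⁻¹ * y * (x * g * x⁻¹)⁻¹) * u =
      x * ((x⁻¹ * y * x)⁻¹ * (g * (x⁻¹ * y * x) * g⁻¹) * (x⁻¹ * u * x)) * x⁻¹ := by group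
  rw [e1, e2, h2]

def fixMod (K : Subgroup G) (x : G) : Subgroup G where
  carrier := {y | y ∈ Subgroup.normalizer (K : Set G) ∧ y⁻¹ * (x * y * x⁻¹) ∈ K}
  one_mem' := ⟨one_mem _, by simp⟩
  mul_mem' := by
    rintro y y' ⟨hy, hy1⟩ ⟨hy', hy1'⟩
    refine ⟨mul_mem hy hy', ?_⟩
    have h1 : y'⁻¹ * (y⁻¹ * (x * y * x⁻¹)) * y' ∈ K := nmem' hy' hy1
    have e : (y * y')⁻¹ * (x * (y * y') * x⁻¹) =
        y'⁻¹ * (y⁻¹ * (x * y * x⁻¹)) * y' * (y'⁻¹ * (x * y' * x⁻¹)) := by group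
    rw [e]
    exact mul_mem h1 hy1'
  inv_mem' := by
    rintro y ⟨hy, hy1⟩
    refine ⟨inv_mem hy, ?_⟩
    have h1 : y * (y⁻¹ * (x * y * x⁻¹))⁻¹ * y⁻¹ ∈ K := nmem hy (inv_mem hy1)
    have e : y⁻¹⁻¹ * (x * y⁻¹ * x⁻¹) = y * (y⁻¹ * (x * y * x⁻¹))⁻¹ * y⁻¹ := by group
    rw [e]
    exact h1

theorem mem_fixMod {K : Subgroup G} {x y : G} :
    y ∈ fixMod K x ↔ y ∈ Subgroup.normalizer (K : Set G) ∧ y⁻¹ * (x * y * x⁻¹) ∈ K := Iff.rfl

theorem normalizer_commutator {H₁ H₂ E : Subgroup G}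
    (h1 : E ≤ Subgroup.normalizer (H₁ : Set G)) (h2 : E ≤ Subgroup.normalizer (H₂ : Set G)) :
    E ≤ Subgroup.normalizer ((⁅H₁, H₂⁆ : Subgroup G) : Set G) := by
  intro g hg
  have e1 := Subgroup.mem_normalizer_iff_map_conj_eq.mp (h1 hg)
  have e2 := Subgroup.mem_normalizer_iff_map_conj_eq.mp (h2 hg)
  rw [Subgroup.mem_normalizer_iff_map_conj_eq, Subgroup.map_commutator, e1, e2]

theorem normalizer_inf {H₁ H₂ E : Subgroup G}
    (h1 : E ≤ Subgroup.normalizer (H₁ : Set G)) (h2 : E ≤ Subgroup.normalizer (H₂ : Set G)) :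
    E ≤ Subgroup.normalizer ((H₁ ⊓ H₂ : Subgroup G) : Set G) := by
  intro g hg
  rw [Subgroup.mem_normalizer_iff]
  intro y
  have a1 := Subgroup.mem_normalizer_iff.mp (h1 hg) y
  have a2 := Subgroup.mem_normalizer_iff.mp (h2 hg) y
  simp only [Subgroup.mem_inf]
  rw [a1, a2]

theorem normalizer_sup {H₁ H₂ E : Subgroup G}
    (h1 : E ≤ Subgroup.normalizer (H₁ : Set G)) (h2 : E ≤ Subgroup.normalizer (H₂ : Set G)) :
    E ≤ Subgroup.normalizer ((H₁ ⊔ H₂ : Subgroup G) : Set G) := by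
  intro g hg
  have e1 := Subgroup.mem_normalizer_iff_map_conj_eq.mp (h1 hg)
  have e2 := Subgroup.mem_normalizer_iff_map_conj_eq.mp (h2 hg)
  rw [Subgroup.mem_normalizer_iff_map_conj_eq, Subgroup.map_sup, e1, e2]

theorem normalizer_iSup {ι : Sort*} {H : ι → Subgroup G} {E : Subgroup G}
    (h : ∀ i, E ≤ Subgroup.normalizer ((H i : Subgroup G) : Set G)) :
    E ≤ Subgroup.normalizer ((⨆ i, H i : Subgroup G) : Set G) := by
  intro g hg
  rw [Subgroup.mem_normalizer_iff_map_conj_eq, Subgroup.map_iSup]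
  congr 1
  funext i
  exact Subgroup.mem_normalizer_iff_map_conj_eq.mp (h i hg)

theorem normalizer_centralizer {X E : Subgroup G}
    (h : E ≤ Subgroup.normalizer (X : Set G)) :
    E ≤ Subgroup.normalizer ((Subgroup.centralizer (X : Set G) : Subgroup G) : Set G) := by
  have key : ∀ g ∈ E, ∀ c ∈ Subgroup.centralizer (X : Set G),
      g * c * g⁻¹ ∈ Subgroup.centralizer (X : Set G) := by
    intro g hg c hc
    rw [Subgroup.mem_centralizer_iff] at hc ⊢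
    intro u hu
    have hu' : g⁻¹ * u * g ∈ X := nmem' (h hg) hu
    have h2 := hc _ hu'
    have e1 : u * (g * c * g⁻¹) = g * (g⁻¹ * u * g * c) * g⁻¹ := by group
    have e2 : g * c * g⁻¹ * u = g * (c * (g⁻¹ * u * g)) * g⁻¹ := by group
    rw [e1, e2, h2]
  intro g hg
  rw [Subgroup.mem_normalizer_iff]
  intro c
  refine ⟨fun hc => key g hg c hc, fun hc => ?_⟩
  have h3 := key g⁻¹ (inv_mem hg) _ hc
  have e : g⁻¹ * (g * c * g⁻¹) * g⁻¹⁻¹ = c := by group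
  rwa [e] at h3

theorem normalizer_centralizer_singleton {c : G} {E : Subgroup G}
    (h : ∀ g ∈ E, g * c = c * g) :
    E ≤ Subgroup.normalizer ((Subgroup.centralizer ({c} : Set G) : Subgroup G) : Set G) := by
  have key : ∀ g ∈ E, ∀ y ∈ Subgroup.centralizer ({c} : Set G),
      g * y * g⁻¹ ∈ Subgroup.centralizer ({c} : Set G) := by
    intro g hg y hy
    rw [Subgroup.mem_centralizer_singleton_iff] at hy ⊢
    have hgc := h g hg
    have hgc' : g⁻¹ * c = c * g⁻¹ := by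
      have e0 : g⁻¹ * c = g⁻¹ * (c * g) * g⁻¹ := by group
      rw [e0, ← hgc]; group
    calc g * y * g⁻¹ * c = g * y * (g⁻¹ * c) := by group
      _ = g * y * (c * g⁻¹) := by rw [hgc']
      _ = g * (y * c) * g⁻¹ := by group
      _ = g * (c * y) * g⁻¹ := by rw [hy]
      _ = g * c * y * g⁻¹ := by group
      _ = c * g * y * g⁻¹ := by rw [hgc]
      _ = c * (g * y * g⁻¹) := by group
  intro g hg
  rw [Subgroup.mem_normalizer_iff]
  intro y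
  refine ⟨fun hy => key g hg y hy, fun hy => ?_⟩
  have h3 := key g⁻¹ (inv_mem hg) _ hy
  have e : g⁻¹ * (g * y * g⁻¹) * g⁻¹⁻¹ = y := by group
  rwa [e] at h3

theorem normalizer_stabMod {S K E : Subgroup G}
    (h1 : E ≤ Subgroup.normalizer (S : Set G)) (h2 : E ≤ Subgroup.normalizer (K : Set G)) :
    E ≤ Subgroup.normalizer ((stabMod S K : Subgroup G) : Set G) := by
  have key : ∀ g ∈ E, ∀ t ∈ stabMod S K, g * t * g⁻¹ ∈ stabMod S K := by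
    intro g hg t ht
    have hgn := h1 hg
    have hn : g * t * g⁻¹ ∈ Subgroup.normalizer (S : Set G) :=
      mul_mem (mul_mem hgn ht.1) (inv_mem hgn)
    refine ⟨hn, fun y hy => ?_⟩
    have hy' : g⁻¹ * y * g ∈ S := nmem' hgn hy
    have h3 := nmem (h2 hg) (ht.2 _ hy')
    have e : y⁻¹ * (g * t * g⁻¹ * y * (g * t * g⁻¹)⁻¹) =
        g * ((g⁻¹ * y * g)⁻¹ * (t * (g⁻¹ * y * g) * t⁻¹)) * g⁻¹ := by group
    rw [e]; exact h3
  intro g hg
  rw [Subgroup.mem_normalizer_iff]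
  intro t
  refine ⟨fun ht => key g hg t ht, fun ht => ?_⟩
  have h3 := key g⁻¹ (inv_mem hg) _ ht
  have e : g⁻¹ * (g * t * g⁻¹) * g⁻¹⁻¹ = t := by group
  rwa [e] at h3

theorem normalizer_commutator_of_mod {W D E : Subgroup G}
    (hW : E ≤ Subgroup.normalizer (W : Set G))
    (hD : ∀ g ∈ E, ∀ u ∈ D, u⁻¹ * (g * u * g⁻¹) ∈ Subgroup.centralizer (W : Set G)) :
    E ≤ Subgroup.normalizer ((⁅W, D⁆ : Subgroup G) : Set G) := by
  rw [Subgroup.commutator_def, Subgroup.le_normalizer_closure_iff]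
  rintro h hh _ ⟨w, hw, u, hu, rfl⟩
  have hw' : h * w * h⁻¹ ∈ W := nmem (hW hh) hw
  have hk := hD h hh u hu
  rw [Subgroup.mem_centralizer_iff] at hk
  have hk1 := hk _ hw'
  have hk2 : (h * w * h⁻¹)⁻¹ * (u⁻¹ * (h * u * h⁻¹)) = (u⁻¹ * (h * u * h⁻¹)) * (h * w * h⁻¹)⁻¹ := by
    have := hk _ (inv_mem hw')
    exact this
  have e : h * ⁅w, u⁆ * h⁻¹ = ⁅h * w * h⁻¹, u⁆ := by
    rw [commutatorElement_def, commutatorElement_def]
    have e1 : h * (w * u * w⁻¹ * u⁻¹) * h⁻¹ =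
        (h * w * h⁻¹) * u * ((u⁻¹ * (h * u * h⁻¹)) * (h * w * h⁻¹)⁻¹) * (h * u⁻¹ * h⁻¹) := by group
    rw [e1, ← hk2]
    group
  rw [e]
  exact Subgroup.subset_closure ⟨_, hw', u, hu, rfl⟩

theorem three_sub_normal (H₁ H₂ H₃ K : Subgroup G) [K.Normal]
    (h1 : ⁅⁅H₂, H₃⁆, H₁⁆ ≤ K) (h2 : ⁅⁅H₃, H₁⁆, H₂⁆ ≤ K) : ⁅⁅H₁, H₂⁆, H₃⁆ ≤ K := by
  have e : ∀ A B C : Subgroup G, ⁅⁅A, B⁆, C⁆ ≤ K ↔
      ⁅⁅A.map (QuotientGroup.mk' K), B.map (QuotientGroup.mk' K)⁆, C.map (QuotientGroup.mk' K)⁆ = ⊥ := by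
    intro A B C
    rw [← Subgroup.map_commutator, ← Subgroup.map_commutator, Subgroup.map_eq_bot_iff,
      QuotientGroup.ker_mk']
  rw [e] at h1 h2 ⊢
  exact Subgroup.commutator_commutator_eq_bot_of_rotate h1 h2

theorem three_sub_rel {A B C N : Subgroup G}
    (hA : A ≤ Subgroup.normalizer (N : Set G)) (hB : B ≤ Subgroup.normalizer (N : Set G))
    (hC : C ≤ Subgroup.normalizer (N : Set G))
    (h1 : ⁅⁅B, C⁆, A⁆ ≤ N) (h2 : ⁅⁅C, A⁆, B⁆ ≤ N) : ⁅⁅A, B⁆, C⁆ ≤ N := by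
  obtain ⟨X, hX⟩ : ∃ X : Subgroup G, X = Subgroup.normalizer (N : Set G) := ⟨_, rfl⟩
  rw [← hX] at hA hB hC
  have hn : (N.subgroupOf X).Normal := by
    rw [hX]; exact Subgroup.normal_in_normalizer
  have key : ∀ S T U : Subgroup G, S ≤ X → T ≤ X → U ≤ X →
      (⁅⁅S, T⁆, U⁆ ≤ N ↔ ⁅⁅S.subgroupOf X, T.subgroupOf X⁆, U.subgroupOf X⁆ ≤ N.subgroupOf X) := by
    intro S T U hS hT hU
    have e : (⁅⁅S.subgroupOf X, T.subgroupOf X⁆, U.subgroupOf X⁆).map X.subtype = ⁅⁅S, T⁆, U⁆ := by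
      rw [Subgroup.map_commutator, Subgroup.map_commutator, Subgroup.map_subgroupOf_eq_of_le hS,
        Subgroup.map_subgroupOf_eq_of_le hT, Subgroup.map_subgroupOf_eq_of_le hU]
    rw [← e, Subgroup.map_le_iff_le_comap]
    rfl
  rw [key A B C hA hB hC]
  rw [key B C A hB hC hA] at h1
  rw [key C A B hC hA hB] at h2
  exact three_sub_normal _ _ _ _ h1 h2

theorem commElem_mul_left (x y c : G) : ⁅x * y, c⁆ = x * ⁅y, c⁆ * x⁻¹ * ⁅x, c⁆ := by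
  simp only [commutatorElement_def]
  group

theorem comm_iSup_le {ι : Sort*} (S : ι → Subgroup G) (C E : Subgroup G)
    (hn : (⨆ i, S i) ≤ Subgroup.normalizer (E : Set G)) (h : ∀ i, ⁅S i, C⁆ ≤ E) :
    ⁅(⨆ i, S i), C⁆ ≤ E := by
  rw [Subgroup.commutator_le]
  intro w hw c hc
  have key : w ∈ (⨆ i, S i) ∧ ⁅w, c⁆ ∈ E := by
    refine Subgroup.iSup_induction S (C := fun w => w ∈ (⨆ i, S i) ∧ ⁅w, c⁆ ∈ E) hw ?_ ?_ ?_
    · intro i x hx
      exact ⟨le_iSup S i hx, h i (Subgroup.commutator_mem_commutator hx hc)⟩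
    · refine ⟨Subgroup.one_mem _, ?_⟩
      rw [commutatorElement_one_left]
      exact Subgroup.one_mem _
    · rintro x y ⟨hx1, hx2⟩ ⟨hy1, hy2⟩
      refine ⟨Subgroup.mul_mem _ hx1 hy1, ?_⟩
      rw [commElem_mul_left]
      refine Subgroup.mul_mem _ ?_ hx2
      exact (Subgroup.mem_normalizer_iff.mp (hn hx1) _).mp hy2
  exact key.2

theorem normalizer_zpowers_of_commute {g u : G} (h : g * u = u * g) :
    g ∈ Subgroup.normalizer ((Subgroup.zpowers u : Subgroup G) : Set G) := by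
  rw [Subgroup.mem_normalizer_iff_map_conj_eq, MonoidHom.map_zpowers]
  have e : (MulAut.conj g) u = u := by
    simp only [MulAut.conj_apply]
    rw [h]; group
  show Subgroup.zpowers ((MulAut.conj g) u) = Subgroup.zpowers u
  rw [e]

theorem conj_mem_of_normalizer_le {E X : Subgroup G} (h : ∀ g ∈ E, ∀ u ∈ X, g * u * g⁻¹ ∈ X) :
    E ≤ Subgroup.normalizer (X : Set G) := by
  intro g hg
  rw [Subgroup.mem_normalizer_iff]
  intro u
  refine ⟨fun hu => h g hg u hu, fun hu => ?_⟩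
  have h3 := h g⁻¹ (inv_mem hg) _ hu
  have e : g⁻¹ * (g * u * g⁻¹) * g⁻¹⁻¹ = u := by group
  rwa [e] at h3

end Cfsg.Agent.Lib.Helper1.Ward
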