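import Mathlib
import Cfsg.Agent.S0055
import Cfsg.Agent.Lib.Helper18.Fpf4Sum
import Cfsg.Agent.Lib.Helper1.Ward.StabMod

set_option autoImplicit false

open scoped commutatorElement IsMulCommutative

namespace Cfsg.Agent.Lib.Helper1.Ward

open Cfsg.Agent.Lib.Helper18.Fpf4

theorem pow_eq_one_of_coprime {M : Type*} [Group M] [Finite M] {n : ℕ}
    (hcop : (Nat.card M).Coprime n) {m : M} (hm : m ^ n = 1) : m = 1 := by
  have h1 : orderOf m ∣ n := orderOf_dvd_of_pow_eq_one hm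
  have h2 : orderOf m ∣ Nat.card M := orderOf_dvd_natCard m
  have h3 : orderOf m ∣ Nat.gcd (Nat.card M) n := Nat.dvd_gcd h2 h1
  rw [hcop] at h3
  exact orderOf_eq_one_iff.mp (Nat.dvd_one.mp h3)

theorem frob_commute {M : Type*} [CommGroup M] [Finite M] (T : Subgroup (MulAut M)) (β : MulAut M)
    {p : ℕ} (hp : p.Prime)
    (hTcomm : ∀ t ∈ T, ∀ t' ∈ T, t * t' = t' * t)
    (hβp : β ^ p = 1) (hβT : β ∈ Subgroup.normalizer (T : Set (MulAut M)))
    (hfpf : ∀ m : M, β m = m → m = 1)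
    (hTp : (Nat.card T).Coprime p) (hMT : (Nat.card M).Coprime (Nat.card T)) :
    ∀ t ∈ T, β * t = t * β := by
  have hTc : IsMulCommutative T := ⟨⟨fun a b => Subtype.ext (hTcomm a.1 a.2 b.1 b.2)⟩⟩
  obtain ⟨B, hB⟩ : ∃ B : Subgroup (MulAut M), B = Subgroup.zpowers β := ⟨_, rfl⟩
  have hBT : B ≤ Subgroup.normalizer (T : Set (MulAut M)) := by
    rw [hB, Subgroup.zpowers_le]; exact hβT
  have hBB : B ≤ Subgroup.normalizer (B : Set (MulAut M)) := Subgroup.le_normalizer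
  have hBcard : Nat.card B ∣ p := by
    rw [hB, Nat.card_zpowers]; exact orderOf_dvd_of_pow_eq_one hβp
  have hcopBT : (Nat.card B).Coprime (Nat.card T) :=
    Nat.Coprime.coprime_dvd_left hBcard hTp.symm
  obtain ⟨Q, hQ⟩ : ∃ Q : Subgroup (MulAut M), Q = ⁅T, B⁆ := ⟨_, rfl⟩
  have hQT : Q ≤ T := by
    rw [hQ]; exact Subgroup.le_normalizer_iff_commutator_le_left.mp hBT
  have h55 := (Cfsg.Agent.S0055.result B T hBT hcopBT).1
  have hβB : β ∈ B := by rw [hB]; exact Subgroup.mem_zpowers β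
  have hβQ : ∀ y ∈ Q, β * y * β⁻¹ ∈ Q := by
    intro y hy
    have hn : B ≤ Subgroup.normalizer ((⁅T, B⁆ : Subgroup (MulAut M)) : Set (MulAut M)) :=
      normalizer_commutator hBT hBB
    rw [hQ] at hy ⊢
    exact nmem (hn hβB) hy
  have hQcard : Nat.card Q ∣ Nat.card T := Subgroup.card_dvd_of_le hQT
  have hMQ : (Nat.card M).Coprime (Nat.card Q) := Nat.Coprime.coprime_dvd_right hQcard hMT
  have hker : ∀ n ∈ (trP Q).ker, n = 1 := by
    apply frob_sum (trP Q).ker Q β p hp.pos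
    · intro y hy n hn
      rw [MonoidHom.mem_ker] at hn ⊢
      rw [trP_apply_mem Q y hy, hn]
    · intro n hn
      rw [MonoidHom.mem_ker] at hn ⊢
      rw [trP_conj Q β hβQ, hn, map_one]
    · exact hβQ
    · intro n _
      rw [hβp]; rfl
    · intro k hk0 hkp y hy hcomm
      have hcop : Nat.Coprime k p :=
        Nat.Coprime.symm ((Nat.Prime.coprime_iff_not_dvd hp).mpr (Nat.not_dvd_of_pos_of_lt hk0 hkp))
      obtain ⟨j, -, hj⟩ := Nat.exists_mul_mod_eq_one_of_coprime hcop hp.one_lt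
      have hβj : (β ^ k) ^ j = β := by
        rw [← pow_mul, pow_eq_pow_mod (k * j) hβp, hj, pow_one]
      have hc : Commute β y := by
        rw [← hβj]
        exact Commute.pow_left hcomm j
      have hyc : y ∈ Subgroup.centralizer (B : Set (MulAut M)) := by
        rw [Subgroup.mem_centralizer_iff]
        intro h hh
        rw [hB] at hh
        obtain ⟨i, rfl⟩ := hh
        exact (Commute.zpow_left hc i).eq
      have hy3 : y ∈ (T ⊓ Subgroup.centralizer (B : Set (MulAut M))) ⊓ ⁅T, B⁆ := by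
        refine Subgroup.mem_inf.mpr ⟨Subgroup.mem_inf.mpr ⟨hQT hy, hyc⟩, ?_⟩
        rw [← hQ]; exact hy
      rw [h55, Subgroup.mem_bot] at hy3
      exact hy3
    · intro n hn hfix
      rw [MonoidHom.mem_ker, trP_of_fixed Q n hfix] at hn
      exact pow_eq_one_of_coprime hMQ hn
    · intro n _ hn
      exact hfpf n hn
    · intro n _ hn
      exact pow_eq_one_of_coprime hMQ hn
  have hQbot : ∀ y ∈ Q, y = 1 := by
    intro y hy
    apply MulEquiv.ext
    intro m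
    have h1 : y m * m⁻¹ ∈ (trP Q).ker := by
      rw [MonoidHom.mem_ker, map_mul, trP_apply_mem Q y hy, map_inv, mul_inv_cancel]
    have h2 := hker _ h1
    rw [mul_inv_eq_one] at h2
    rw [h2]; rfl
  intro t ht
  have h1 : ⁅t, β⁆ ∈ Q := by
    rw [hQ]; exact Subgroup.commutator_mem_commutator ht hβB
  have h2 := hQbot _ h1
  rw [commutatorElement_def] at h2
  have h3 : t * β = β * t := by
    have : t * β = (t * β * t⁻¹ * β⁻¹) * (β * t) := by group
    rw [this, h2, one_mul]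
  exact h3.symm

theorem frob_internal {G : Type*} [Group G] [Finite G] {p : ℕ} (hp : p.Prime) (T X : Subgroup G) (b : G)
    (hXcomm : ∀ v ∈ X, ∀ w ∈ X, v * w = w * v)
    (hTX : T ≤ Subgroup.normalizer (X : Set G)) (hbX : b ∈ Subgroup.normalizer (X : Set G))
    (hbT : b ∈ Subgroup.normalizer (T : Set G))
    (hbp : b ^ p = 1)
    (hTp : (Nat.card T).Coprime p) (hXT : (Nat.card X).Coprime (Nat.card T))
    (hTT : ⁅T, T⁆ ≤ Subgroup.centralizer (X : Set G))
    (hfpf : ∀ v ∈ X, b * v = v * b → v = 1) :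
    b ∈ stabMod T (T ⊓ Subgroup.centralizer (X : Set G)) := by
  have hXc : IsMulCommutative X := ⟨⟨fun a b => Subtype.ext (hXcomm a.1 a.2 b.1 b.2)⟩⟩
  obtain ⟨N, hN⟩ : ∃ N : Subgroup G, N = Subgroup.normalizer (X : Set G) := ⟨_, rfl⟩
  obtain ⟨φ, hφ⟩ : ∃ φ : ↥(Subgroup.normalizer (X : Set G)) →* MulAut ↥X,
      φ = X.normalizerMonoidHom := ⟨_, rfl⟩
  have hφapp : ∀ (g : ↥(Subgroup.normalizer (X : Set G))) (v : ↥X),
      ((φ g v : ↥X) : G) = (g : G) * (v : G) * (g : G)⁻¹ := by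
    intro g v; rw [hφ]; rfl
  have hker : ∀ g : ↥(Subgroup.normalizer (X : Set G)),
      φ g = 1 ↔ (g : G) ∈ Subgroup.centralizer (X : Set G) := by
    intro g
    rw [← MonoidHom.mem_ker, hφ, Subgroup.normalizerMonoidHom_ker, Subgroup.mem_subgroupOf]
  obtain ⟨T', hT'⟩ : ∃ T' : Subgroup (MulAut ↥X),
      T' = (T.subgroupOf (Subgroup.normalizer (X : Set G))).map φ := ⟨_, rfl⟩
  have hmemT' : ∀ t (ht : t ∈ T), φ ⟨t, hTX ht⟩ ∈ T' := by
    intro t ht
    rw [hT']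
    exact Subgroup.mem_map_of_mem φ (Subgroup.mem_subgroupOf.mpr ht)
  have hT'comm : ∀ t ∈ T', ∀ t' ∈ T', t * t' = t' * t := by
    rw [hT']
    rintro _ ⟨t₁, ht₁, rfl⟩ _ ⟨t₂, ht₂, rfl⟩
    have ht₁ : (t₁ : G) ∈ T := Subgroup.mem_subgroupOf.mp ht₁
    have ht₂ : (t₂ : G) ∈ T := Subgroup.mem_subgroupOf.mp ht₂
    have h1 : φ (⁅t₁, t₂⁆) = 1 := by
      rw [hker]
      apply hTT
      have : ((⁅t₁, t₂⁆ : ↥(Subgroup.normalizer (X : Set G))) : G) = ⁅(t₁ : G), (t₂ : G)⁆ := rfl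
      rw [this]
      exact Subgroup.commutator_mem_commutator ht₁ ht₂
    rw [commutatorElement_def, map_mul, map_mul, map_mul, map_inv, map_inv] at h1
    have : φ t₁ * φ t₂ = (φ t₁ * φ t₂ * (φ t₁)⁻¹ * (φ t₂)⁻¹) * (φ t₂ * φ t₁) := by group
    rw [this, h1, one_mul]
  have hβp : (φ ⟨b, hbX⟩) ^ p = 1 := by
    rw [← map_pow]
    have : (⟨b, hbX⟩ : ↥(Subgroup.normalizer (X : Set G))) ^ p = 1 := by
      apply Subtype.ext
      simp [hbp]
    rw [this, map_one]
  have hβT : φ ⟨b, hbX⟩ ∈ Subgroup.normalizer (T' : Set (MulAut ↥X)) := by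
    rw [hT']
    apply Subgroup.le_normalizer_map φ
    apply Subgroup.mem_map_of_mem
    rw [Subgroup.mem_normalizer_iff]
    intro h
    rw [Subgroup.mem_subgroupOf, Subgroup.mem_subgroupOf]
    exact Subgroup.mem_normalizer_iff.mp hbT h
  have hβfpf : ∀ m : ↥X, φ ⟨b, hbX⟩ m = m → m = 1 := by
    intro m hm
    have h1 := congrArg Subtype.val hm
    rw [hφapp] at h1
    apply Subtype.ext
    apply hfpf _ m.2
    have h2 : b * (m : G) * b⁻¹ = (m : G) := h1
    calc b * (m : G) = b * (m : G) * b⁻¹ * b := by group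
      _ = (m : G) * b := by rw [h2]
  have hcardT' : Nat.card T' ∣ Nat.card T := by
    rw [hT']
    have h1 := Subgroup.card_map_dvd (H := T.subgroupOf (Subgroup.normalizer (X : Set G))) φ
    have h2 : Nat.card (T.subgroupOf (Subgroup.normalizer (X : Set G))) = Nat.card T :=
      Nat.card_congr (Subgroup.subgroupOfEquivOfLe hTX).toEquiv
    rwa [h2] at h1
  have hT'p : (Nat.card T').Coprime p := Nat.Coprime.coprime_dvd_left hcardT' hTp
  have hXT' : (Nat.card ↥X).Coprime (Nat.card T') := Nat.Coprime.coprime_dvd_right hcardT' hXT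
  have key := frob_commute T' (φ ⟨b, hbX⟩) hp hT'comm hβp hβT hβfpf hT'p hXT'
  refine ⟨hbT, fun t ht => ?_⟩
  refine Subgroup.mem_inf.mpr ⟨mul_mem (inv_mem ht) (nmem hbT ht), ?_⟩
  have h1 := key _ (hmemT' t ht)
  have hmem : t⁻¹ * (b * t * b⁻¹) ∈ Subgroup.normalizer (X : Set G) :=
    mul_mem (inv_mem (hTX ht)) (mul_mem (mul_mem hbX (hTX ht)) (inv_mem hbX))
  have h2 : φ ⟨t⁻¹ * (b * t * b⁻¹), hmem⟩ = 1 := by
    have e : (⟨t⁻¹ * (b * t * b⁻¹), hmem⟩ : ↥(Subgroup.normalizer (X : Set G))) =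
        (⟨t, hTX ht⟩)⁻¹ * (⟨b, hbX⟩ * ⟨t, hTX ht⟩ * (⟨b, hbX⟩)⁻¹) := by
      apply Subtype.ext; rfl
    rw [e, map_mul, map_mul, map_mul, map_inv, map_inv, h1]
    group
  exact (hker _).mp h2

end Cfsg.Agent.Lib.Helper1.Ward
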