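import Mathlib

set_option autoImplicit false

namespace Cfsg.Agent.Lib.Helper1.Ward

variable {G : Type*} [Group G]

structure ElAb (p : ℕ) (A : Subgroup G) : Prop where
  hp : p.Prime
  comm : ∀ a ∈ A, ∀ b ∈ A, a * b = b * a
  exp : ∀ a ∈ A, a ^ p = 1
  card : Nat.card A = p ^ 2

namespace ElAb

variable {p : ℕ} {A : Subgroup G}

theorem isMulCommutative (h : ElAb p A) : IsMulCommutative A :=
  ⟨⟨fun a b => Subtype.ext (h.comm a.1 a.2 b.1 b.2)⟩⟩

theorem finite (h : ElAb p A) : Finite A := by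
  apply Nat.finite_of_card_ne_zero
  rw [h.card]
  exact pow_ne_zero _ h.hp.pos.ne'

theorem orderOf_eq (h : ElAb p A) {a : G} (ha : a ∈ A) (ha1 : a ≠ 1) : orderOf a = p := by
  have h1 : orderOf a ∣ p := orderOf_dvd_of_pow_eq_one (h.exp a ha)
  rcases (Nat.dvd_prime h.hp).mp h1 with h2 | h2
  · exact absurd (orderOf_eq_one_iff.mp h2) ha1
  · exact h2

theorem card_zpowers (h : ElAb p A) {a : G} (ha : a ∈ A) (ha1 : a ≠ 1) :
    Nat.card (Subgroup.zpowers a) = p := by
  rw [Nat.card_zpowers, h.orderOf_eq ha ha1]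

theorem zpowers_le (_h : ElAb p A) {a : G} (ha : a ∈ A) : Subgroup.zpowers a ≤ A := by
  rw [Subgroup.zpowers_le]; exact ha

theorem sup_zpowers_eq (h : ElAb p A) {a c : G} (ha : a ∈ A) (ha1 : a ≠ 1) (hc : c ∈ A)
    (hca : c ∉ Subgroup.zpowers a) : Subgroup.zpowers a ⊔ Subgroup.zpowers c = A := by
  have hfin := h.finite
  have hle : Subgroup.zpowers a ⊔ Subgroup.zpowers c ≤ A :=
    sup_le (h.zpowers_le ha) (h.zpowers_le hc)
  have hfinH : Finite ↥(Subgroup.zpowers a ⊔ Subgroup.zpowers c) :=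
    Finite.of_injective (Subgroup.inclusion hle) (Subgroup.inclusion_injective hle)
  have hdvd : Nat.card ↥(Subgroup.zpowers a ⊔ Subgroup.zpowers c) ∣ p ^ 2 := by
    rw [← h.card]; exact Subgroup.card_dvd_of_le hle
  obtain ⟨k, hk, hkc⟩ := (Nat.dvd_prime_pow h.hp).mp hdvd
  have hpd : p ∣ Nat.card ↥(Subgroup.zpowers a ⊔ Subgroup.zpowers c) := by
    rw [← h.card_zpowers ha ha1]; exact Subgroup.card_dvd_of_le le_sup_left
  have hne : Nat.card ↥(Subgroup.zpowers a ⊔ Subgroup.zpowers c) ≠ p := by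
    intro hcard
    have heq : Subgroup.zpowers a = Subgroup.zpowers a ⊔ Subgroup.zpowers c := by
      apply Subgroup.eq_of_le_of_card_ge le_sup_left
      rw [hcard, h.card_zpowers ha ha1]
    apply hca
    rw [heq]
    exact Subgroup.mem_sup_right (Subgroup.mem_zpowers c)
  have hk2 : k = 2 := by
    interval_cases k
    · rw [hkc] at hpd
      simp at hpd
      exact absurd hpd h.hp.one_lt.ne'
    · exact absurd (by rw [hkc]; simp) hne
    · rfl
  apply Subgroup.eq_of_le_of_card_ge hle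
  rw [hkc, hk2, h.card]

theorem not_isCyclic (h : ElAb p A) : ¬ IsCyclic A := by
  intro hcyc
  have hfin := h.finite
  obtain ⟨g, hg⟩ := hcyc.exists_generator
  have h1 : orderOf g = Nat.card A := orderOf_eq_card_of_forall_mem_zpowers hg
  have h2 : g ^ p = 1 := by
    apply Subtype.ext
    simp [h.exp g.1 g.2]
  have h3 : orderOf g ∣ p := orderOf_dvd_of_pow_eq_one h2
  rw [h1, h.card] at h3
  have h4 := Nat.le_of_dvd h.hp.pos h3
  have h5 : p < p ^ 2 := by
    have := h.hp.one_lt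
    nlinarith
  omega

theorem zpowers_eq_of_mem (h : ElAb p A) {a a' : G} (ha : a ∈ A) (ha' : a' ∈ Subgroup.zpowers a)
    (ha1 : a' ≠ 1) : Subgroup.zpowers a' = Subgroup.zpowers a := by
  have hfin := h.finite
  have ha1' : a ≠ 1 := by
    rintro rfl
    rw [Subgroup.zpowers_one_eq_bot, Subgroup.mem_bot] at ha'
    exact ha1 ha'
  have hle : Subgroup.zpowers a' ≤ Subgroup.zpowers a := by
    rw [Subgroup.zpowers_le]; exact ha'
  have hfinH : Finite ↥(Subgroup.zpowers a) :=
    Finite.of_injective (Subgroup.inclusion (h.zpowers_le ha))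
      (Subgroup.inclusion_injective (h.zpowers_le ha))
  apply Subgroup.eq_of_le_of_card_ge hle
  rw [h.card_zpowers ha ha1', h.card_zpowers (h.zpowers_le ha ha') ha1]

theorem mem_sup_zpowers {a c : G} (hac : a * c = c * a) {x : G}
    (hx : x ∈ Subgroup.zpowers a ⊔ Subgroup.zpowers c) :
    ∃ y ∈ Subgroup.zpowers a, ∃ z ∈ Subgroup.zpowers c, x = y * z := by
  have hcomm : ∀ y ∈ Subgroup.zpowers a, ∀ z ∈ Subgroup.zpowers c, y * z = z * y := by
    rintro _ ⟨i, rfl⟩ _ ⟨j, rfl⟩
    exact ((Commute.zpow_zpow (show Commute a c from hac)) i j).eq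
  have hLE : Subgroup.zpowers a ≤ Subgroup.normalizer ((Subgroup.zpowers c : Subgroup G) : Set G) := by
    intro y hy
    rw [Subgroup.mem_normalizer_iff]
    intro z
    constructor
    · intro hz
      have e : y * z * y⁻¹ = z := by rw [hcomm y hy z hz]; group
      rw [e]; exact hz
    · intro hz
      have e : z = y⁻¹ * (y * z * y⁻¹) * y := by group
      have e2 : y⁻¹ * (y * z * y⁻¹) * y = y * z * y⁻¹ := by
        have := hcomm y⁻¹ (inv_mem hy) _ hz
        rw [this]; group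
      rw [e, e2]; exact hz
  have h1 : x ∈ ((Subgroup.zpowers a ⊔ Subgroup.zpowers c : Subgroup G) : Set G) := hx
  rw [Subgroup.coe_mul_of_left_le_normalizer_right _ _ hLE] at h1
  obtain ⟨y, hy, z, hz, rfl⟩ := h1
  exact ⟨y, hy, z, hz, rfl⟩

end ElAb

end Cfsg.Agent.Lib.Helper1.Ward
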