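import Mathlib
import Cfsg.Agent.S0026
import Cfsg.Agent.S0027
import Cfsg.Agent.S0055
import Cfsg.Agent.S0058
import Cfsg.Agent.Lib.Helper1.Ward.StabMod
import Cfsg.Agent.Lib.Helper1.Ward.ElemAb
import Cfsg.Agent.Lib.Helper1.Ward.Frob

set_option autoImplicit false
set_option linter.unusedSectionVars false

open scoped commutatorElement

namespace Cfsg.Agent.Lib.Helper1.Ward

variable {G : Type*} [Group G] [Finite G]

structure PreTower (p s : ℕ) (A V S R : Subgroup G) : Prop where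
  elA : ElAb p A
  hs : s.Prime
  hsp : s ≠ p
  VcopS : (Nat.card V).Coprime s
  VcopP : (Nat.card V).Coprime p
  Sgroup : IsPGroup s S
  RcopS : (Nat.card R).Coprime s
  RcopP : (Nat.card R).Coprime p
  Rsolv : Group.IsSolvable R
  AV : A ≤ Subgroup.normalizer (V : Set G)
  AS : A ≤ Subgroup.normalizer (S : Set G)
  AR : A ≤ Subgroup.normalizer (R : Set G)
  SV : S ≤ Subgroup.normalizer (V : Set G)
  RV : R ≤ Subgroup.normalizer (V : Set G)
  RS : R ≤ Subgroup.normalizer (S : Set G)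
  nilVS : ∀ a ∈ A, a ≠ 1 → ∀ v ∈ V, a * v = v * a → ∀ y ∈ S, a * y = y * a → v * y = y * v
  nilSR : ∀ a ∈ A, a ≠ 1 → ∀ y ∈ S, a * y = y * a → ∀ x ∈ R, a * x = x * a → y * x = x * y
  fpfS : ∀ y ∈ S, (∀ a ∈ A, a * y = y * a) → y = 1
  fpfR : ∀ x ∈ R, (∀ a ∈ A, a * x = x * a) → x = 1

structure Tower (p s : ℕ) (A V S R : Subgroup G) : Prop extends PreTower p s A V S R where
  Vcomm : ∀ v ∈ V, ∀ w ∈ V, v * w = w * v

theorem coprime_of_dvd_pow {a b p s m n : ℕ} (hp : p.Prime) (hs : s.Prime) (hsp : s ≠ p)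
    (ha : a ∣ p ^ m) (hb : b ∣ s ^ n) : a.Coprime b := by
  have h1 : (p ^ m).Coprime (s ^ n) :=
    Nat.Coprime.pow m n ((Nat.coprime_primes hp hs).mpr (Ne.symm hsp))
  exact Nat.Coprime.coprime_dvd_left ha (Nat.Coprime.coprime_dvd_right hb h1)

theorem coprime_of_dvd_pow_right {a b p m : ℕ} (ha : a.Coprime p) (hb : b ∣ p ^ m) :
    a.Coprime b :=
  Nat.Coprime.coprime_dvd_right hb (Nat.Coprime.pow_right m ha)

namespace Tower

variable {p s : ℕ} {A V S R : Subgroup G}

theorem cardS (T : Tower p s A V S R) : ∃ n, Nat.card S = s ^ n := by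
  have := Fact.mk T.hs
  exact (IsPGroup.iff_card).mp T.Sgroup

theorem card_dvd_S (T : Tower p s A V S R) {S' : Subgroup G} (h : S' ≤ S) :
    ∃ n, Nat.card S' ∣ s ^ n := by
  obtain ⟨n, hn⟩ := T.cardS
  exact ⟨n, hn ▸ Subgroup.card_dvd_of_le h⟩

theorem card_dvd_A (T : Tower p s A V S R) {A' : Subgroup G} (h : A' ≤ A) :
    Nat.card A' ∣ p ^ 2 := by
  rw [← T.elA.card]; exact Subgroup.card_dvd_of_le h

theorem copAS (T : Tower p s A V S R) {A' S' : Subgroup G} (hA : A' ≤ A) (hS : S' ≤ S) :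
    (Nat.card A').Coprime (Nat.card S') := by
  obtain ⟨n, hn⟩ := T.card_dvd_S hS
  exact coprime_of_dvd_pow T.elA.hp T.hs T.hsp (T.card_dvd_A hA) hn

theorem copAR (T : Tower p s A V S R) {A' R' : Subgroup G} (hA : A' ≤ A) (hR : R' ≤ R) :
    (Nat.card A').Coprime (Nat.card R') := by
  have h1 : (Nat.card R').Coprime p :=
    Nat.Coprime.coprime_dvd_left (Subgroup.card_dvd_of_le hR) T.RcopP
  exact (coprime_of_dvd_pow_right h1 (T.card_dvd_A hA)).symm

theorem copAV (T : Tower p s A V S R) {A' V' : Subgroup G} (hA : A' ≤ A) (hV : V' ≤ V) :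
    (Nat.card A').Coprime (Nat.card V') := by
  have h1 : (Nat.card V').Coprime p :=
    Nat.Coprime.coprime_dvd_left (Subgroup.card_dvd_of_le hV) T.VcopP
  exact (coprime_of_dvd_pow_right h1 (T.card_dvd_A hA)).symm

theorem copSV (T : Tower p s A V S R) {S' V' : Subgroup G} (hS : S' ≤ S) (hV : V' ≤ V) :
    (Nat.card S').Coprime (Nat.card V') := by
  have h1 : (Nat.card V').Coprime s :=
    Nat.Coprime.coprime_dvd_left (Subgroup.card_dvd_of_le hV) T.VcopS
  obtain ⟨n, hn⟩ := T.card_dvd_S hS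
  exact (coprime_of_dvd_pow_right h1 hn).symm

theorem copRS (T : Tower p s A V S R) {R' S' : Subgroup G} (hR : R' ≤ R) (hS : S' ≤ S) :
    (Nat.card R').Coprime (Nat.card S') := by
  have h1 : (Nat.card R').Coprime s :=
    Nat.Coprime.coprime_dvd_left (Subgroup.card_dvd_of_le hR) T.RcopS
  obtain ⟨n, hn⟩ := T.card_dvd_S hS
  exact coprime_of_dvd_pow_right h1 hn

theorem copSp (T : Tower p s A V S R) {S' : Subgroup G} (hS : S' ≤ S) :
    (Nat.card S').Coprime p := by
  obtain ⟨n, hn⟩ := T.card_dvd_S hS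
  have h1 : (s ^ n).Coprime p :=
    Nat.Coprime.pow_left n ((Nat.coprime_primes T.hs T.elA.hp).mpr T.hsp)
  exact Nat.Coprime.coprime_dvd_left hn h1

theorem solvS (T : Tower p s A V S R) {S' : Subgroup G} (hS : S' ≤ S) : Group.IsSolvable S' := by
  have := Fact.mk T.hs
  have h1 : IsPGroup s S' := T.Sgroup.to_le hS
  have h2 : Group.IsNilpotent S' := h1.isNilpotent
  infer_instance

theorem solvV (T : Tower p s A V S R) {V' : Subgroup G} (hV : V' ≤ V) : Group.IsSolvable V' := by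
  exact Group.isSolvable_of_comm (fun a b => Subtype.ext (T.Vcomm a.1 (hV a.2) b.1 (hV b.2)))

theorem commV (T : Tower p s A V S R) {V' : Subgroup G} (hV : V' ≤ V) : IsMulCommutative V' :=
  ⟨⟨fun a b => Subtype.ext (T.Vcomm a.1 (hV a.2) b.1 (hV b.2))⟩⟩

theorem subR (T : Tower p s A V S R) {R' : Subgroup G} (hR : R' ≤ R)
    (hAR : A ≤ Subgroup.normalizer (R' : Set G)) : Tower p s A V S R' where
  elA := T.elA
  hs := T.hs
  hsp := T.hsp
  Vcomm := T.Vcomm
  VcopS := T.VcopS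
  VcopP := T.VcopP
  Sgroup := T.Sgroup
  RcopS := Nat.Coprime.coprime_dvd_left (Subgroup.card_dvd_of_le hR) T.RcopS
  RcopP := Nat.Coprime.coprime_dvd_left (Subgroup.card_dvd_of_le hR) T.RcopP
  Rsolv := by
    have := T.Rsolv
    exact Group.isSolvable_of_isSolvable_injective (Subgroup.inclusion_injective hR)
  AV := T.AV
  AS := T.AS
  AR := hAR
  SV := T.SV
  RV := hR.trans T.RV
  RS := hR.trans T.RS
  nilVS := T.nilVS
  nilSR := fun a ha ha1 y hy hay x hx hax => T.nilSR a ha ha1 y hy hay x (hR hx) hax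
  fpfS := T.fpfS
  fpfR := fun x hx h => T.fpfR x (hR hx) h

theorem subS (T : Tower p s A V S R) {S' : Subgroup G} (hS : S' ≤ S)
    (hAS : A ≤ Subgroup.normalizer (S' : Set G)) (hRS : R ≤ Subgroup.normalizer (S' : Set G)) :
    Tower p s A V S' R where
  elA := T.elA
  hs := T.hs
  hsp := T.hsp
  Vcomm := T.Vcomm
  VcopS := T.VcopS
  VcopP := T.VcopP
  Sgroup := T.Sgroup.to_le hS
  RcopS := T.RcopS
  RcopP := T.RcopP
  Rsolv := T.Rsolv
  AV := T.AV
  AS := hAS
  AR := T.AR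
  SV := hS.trans T.SV
  RV := T.RV
  RS := hRS
  nilVS := fun a ha ha1 v hv hav y hy hay => T.nilVS a ha ha1 v hv hav y (hS hy) hay
  nilSR := fun a ha ha1 y hy hay x hx hax => T.nilSR a ha ha1 y (hS hy) hay x hx hax
  fpfS := fun y hy h => T.fpfS y (hS hy) h
  fpfR := T.fpfR

theorem commute_of_mem_zpowers {a c y : G} (hc : c ∈ Subgroup.zpowers a) (h : a * y = y * a) :
    c * y = y * c := by
  obtain ⟨i, rfl⟩ := hc
  exact (Commute.zpow_left (show Commute a y from h) i).eq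

theorem commute_all (T : Tower p s A V S R) {a c y : G}
    (hac : Subgroup.zpowers a ⊔ Subgroup.zpowers c = A)
    (ha : a * y = y * a) (hc : c * y = y * c) : ∀ g ∈ A, g * y = y * g := by
  intro g hg
  have h1 : Subgroup.zpowers a ⊔ Subgroup.zpowers c ≤ Subgroup.centralizer ({y} : Set G) := by
    apply sup_le
    · rw [Subgroup.zpowers_le, Subgroup.mem_centralizer_singleton_iff]; exact ha
    · rw [Subgroup.zpowers_le, Subgroup.mem_centralizer_singleton_iff]; exact hc
  rw [hac] at h1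
  have := h1 hg
  rw [Subgroup.mem_centralizer_singleton_iff] at this
  exact this

theorem A_norm_cent (T : Tower p s A V S R) {c : G} (hc : c ∈ A) :
    A ≤ Subgroup.normalizer ((Subgroup.centralizer ({c} : Set G) : Subgroup G) : Set G) :=
  normalizer_centralizer_singleton (fun g hg => T.elA.comm g hg c hc)

theorem sup58 (T : Tower p s A V S R) {K E : Subgroup G}
    (hAK : A ≤ Subgroup.normalizer (K : Set G)) (hcop : (Nat.card A).Coprime (Nat.card K))
    (h : ∀ a ∈ A, a ≠ 1 → K ⊓ Subgroup.centralizer ({a} : Set G) ≤ E) : K ≤ E := by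
  have := T.elA.isMulCommutative
  have h58 := Cfsg.Agent.S0058.result A K T.elA.not_isCyclic hAK hcop
  rw [← h58]
  apply iSup₂_le
  intro a ha
  exact h a ha.1 ha.2

theorem comm_eq_self {B K : Subgroup G} (hBK : B ≤ Subgroup.normalizer (K : Set G))
    (hcop : (Nat.card B).Coprime (Nat.card K)) (hsolv : Group.IsSolvable B ∨ Group.IsSolvable K)
    (hfix : ∀ k ∈ K, (∀ b ∈ B, b * k = k * b) → k = 1) : ⁅K, B⁆ = K := by
  have h26 := Cfsg.Agent.S0026.result B K hBK hcop hsolv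
  have h1 : K ⊓ Subgroup.centralizer (B : Set G) = ⊥ := by
    rw [eq_bot_iff]
    intro k hk
    rw [Subgroup.mem_bot]
    apply hfix k hk.1
    intro b hb
    exact (Subgroup.mem_centralizer_iff.mp hk.2 b hb)
  rw [h1, sup_bot_eq] at h26
  exact h26

theorem zpowers_solv (a : G) : Group.IsSolvable (Subgroup.zpowers a) := by
  apply Group.isSolvable_of_comm
  rintro ⟨_, i, rfl⟩ ⟨_, j, rfl⟩
  apply Subtype.ext
  show a ^ i * a ^ j = a ^ j * a ^ i
  rw [← zpow_add, ← zpow_add, add_comm]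

end Tower


end Cfsg.Agent.Lib.Helper1.Ward
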