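import Mathlib
import Cfsg.Agent.Lib.Helper1.Ward.Tower

set_option autoImplicit false
set_option linter.unusedSectionVars false

open scoped commutatorElement

namespace Cfsg.Agent.Lib.Helper1.Ward

variable {G : Type*} [Group G] [Finite G]

structure Red (p s : ℕ) (A V S R : Subgroup G) (b₀ : G) : Prop where
  T : Tower p s A V S R
  hb₀A : b₀ ∈ A
  hb₀1 : b₀ ≠ 1
  hb₀R : ∀ x ∈ R, b₀ * x = x * b₀
  hSR : ⁅S, R⁆ = S
  sub : ∀ S' : Subgroup G, S' ≤ S → A ≤ Subgroup.normalizer (S' : Set G) →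
    R ≤ Subgroup.normalizer (S' : Set G) → S' ≠ S → ⁅S', R⁆ ≤ Subgroup.centralizer (V : Set G)

abbrev Sc (S : Subgroup G) (c : G) : Subgroup G := S ⊓ Subgroup.centralizer ({c} : Set G)

abbrev Xc (V S : Subgroup G) (c : G) : Subgroup G := ⁅V, Sc S c⁆

namespace Tower

variable {p s : ℕ} {A V S R : Subgroup G}

theorem Sc_le (S : Subgroup G) (c : G) : Sc S c ≤ S := inf_le_left

theorem mem_Sc {S : Subgroup G} {c y : G} : y ∈ Sc S c ↔ y ∈ S ∧ c * y = y * c := by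
  rw [Sc, Subgroup.mem_inf, Subgroup.mem_centralizer_singleton_iff]
  constructor
  · rintro ⟨h1, h2⟩; exact ⟨h1, h2.symm⟩
  · rintro ⟨h1, h2⟩; exact ⟨h1, h2.symm⟩

theorem A_norm_Sc (T : Tower p s A V S R) {c : G} (hc : c ∈ A) :
    A ≤ Subgroup.normalizer ((Sc S c : Subgroup G) : Set G) :=
  normalizer_inf T.AS (T.A_norm_cent hc)

theorem Xc_le (T : Tower p s A V S R) (c : G) : Xc V S c ≤ V :=
  Subgroup.le_normalizer_iff_commutator_le_left.mp ((Sc_le S c).trans T.SV)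

theorem A_norm_Xc (T : Tower p s A V S R) {c : G} (hc : c ∈ A) :
    A ≤ Subgroup.normalizer ((Xc V S c : Subgroup G) : Set G) :=
  normalizer_commutator T.AV (T.A_norm_Sc hc)

theorem S_norm_Xc (T : Tower p s A V S R)
    (hSS : ⁅S, S⁆ ≤ Subgroup.centralizer (V : Set G)) (c : G) :
    S ≤ Subgroup.normalizer ((Xc V S c : Subgroup G) : Set G) := by
  apply normalizer_commutator_of_mod T.SV
  intro g hg u hu
  apply hSS
  have e : u⁻¹ * (g * u * g⁻¹) = ⁅u⁻¹, g⁆ := by rw [commutatorElement_def]; group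
  rw [e]
  exact Subgroup.commutator_mem_commutator (inv_mem hu.1) hg

theorem Xc_fpf (T : Tower p s A V S R) {c : G} (hc : c ∈ A) (hc1 : c ≠ 1) :
    ∀ v ∈ Xc V S c, c * v = v * c → v = 1 := by
  intro v hv hcv
  have hvV : v ∈ V := T.Xc_le c hv
  have := T.commV (le_refl V)
  have h55 := (Cfsg.Agent.S0055.result (Sc S c) V ((Sc_le S c).trans T.SV)
    (T.copSV (Sc_le S c) (le_refl V))).1
  have h1 : v ∈ (V ⊓ Subgroup.centralizer ((Sc S c : Subgroup G) : Set G)) ⊓ ⁅V, Sc S c⁆ := by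
    refine Subgroup.mem_inf.mpr ⟨Subgroup.mem_inf.mpr ⟨hvV, ?_⟩, hv⟩
    rw [Subgroup.mem_centralizer_iff]
    intro y hy
    have hy' := mem_Sc.mp hy
    exact (T.nilVS c hc hc1 v hvV hcv y hy'.1 hy'.2).symm
  rw [h55, Subgroup.mem_bot] at h1
  exact h1

theorem c_mem_stab (T : Tower p s A V S R)
    (hSS : ⁅S, S⁆ ≤ Subgroup.centralizer (V : Set G)) {c : G} (hc : c ∈ A) (hc1 : c ≠ 1) :
    c ∈ stabMod S (S ⊓ Subgroup.centralizer ((Xc V S c : Subgroup G) : Set G)) := by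
  apply frob_internal T.elA.hp S (Xc V S c) c
  · intro v hv w hw
    exact T.Vcomm v (T.Xc_le c hv) w (T.Xc_le c hw)
  · exact T.S_norm_Xc hSS c
  · exact T.A_norm_Xc hc hc
  · exact T.AS hc
  · exact T.elA.exp c hc
  · exact T.copSp (le_refl S)
  · exact (T.copSV (le_refl S) (T.Xc_le c)).symm
  · exact hSS.trans (Subgroup.centralizer_le (T.Xc_le c))
  · exact T.Xc_fpf hc hc1

theorem zpowers_le_stab (T : Tower p s A V S R)
    (hSS : ⁅S, S⁆ ≤ Subgroup.centralizer (V : Set G)) {c : G} (hc : c ∈ A) (hc1 : c ≠ 1) :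
    Subgroup.zpowers c ≤ stabMod S (S ⊓ Subgroup.centralizer ((Xc V S c : Subgroup G) : Set G)) := by
  rw [Subgroup.zpowers_le]
  exact T.c_mem_stab hSS hc hc1

theorem comm_zpowers_le (T : Tower p s A V S R)
    (hSS : ⁅S, S⁆ ≤ Subgroup.centralizer (V : Set G)) {c : G} (hc : c ∈ A) (hc1 : c ≠ 1) :
    ⁅S, Subgroup.zpowers c⁆ ≤ S ⊓ Subgroup.centralizer ((Xc V S c : Subgroup G) : Set G) :=
  commutator_le_of_le_stabMod (T.zpowers_le_stab hSS hc hc1)

theorem Sc_le_cent (T : Tower p s A V S R)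
    (hSS : ⁅S, S⁆ ≤ Subgroup.centralizer (V : Set G)) {c c' : G} (hc : c ∈ A) (hc1 : c ≠ 1)
    (hc' : c' ∈ A) (hcc' : c' ∉ Subgroup.zpowers c) :
    Sc S c' ≤ Subgroup.centralizer ((Xc V S c : Subgroup G) : Set G) := by
  have hsup := T.elA.sup_zpowers_eq hc hc1 hc' hcc'
  have hB : Subgroup.zpowers c ≤ A := T.elA.zpowers_le hc
  have hBK : Subgroup.zpowers c ≤ Subgroup.normalizer ((Sc S c' : Subgroup G) : Set G) :=
    hB.trans (T.A_norm_Sc hc')
  have hcop := T.copAS hB (Sc_le S c')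
  have h1 : ⁅Sc S c', Subgroup.zpowers c⁆ = Sc S c' := by
    apply comm_eq_self hBK hcop (Or.inl (zpowers_solv c))
    intro k hk hfix
    have hk' := mem_Sc.mp hk
    apply T.fpfS k hk'.1
    exact T.commute_all hsup (hfix c (Subgroup.mem_zpowers c)) hk'.2
  rw [← h1]
  exact (Subgroup.commutator_mono (Sc_le S c') (le_refl _)).trans
    ((T.comm_zpowers_le hSS hc hc1).trans inf_le_right)

end Tower


namespace Red

variable {p s : ℕ} {A V S R : Subgroup G} {b₀ : G}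

theorem R_comm_of_mem (h : Red p s A V S R b₀) {a : G} (ha : a ∈ Subgroup.zpowers b₀) :
    ∀ x ∈ R, a * x = x * a :=
  fun x hx => Tower.commute_of_mem_zpowers ha (h.hb₀R x hx)

theorem mem_A_of_mem (h : Red p s A V S R b₀) {a : G} (ha : a ∈ Subgroup.zpowers b₀) : a ∈ A :=
  h.T.elA.zpowers_le h.hb₀A ha

theorem R_norm_Sc (h : Red p s A V S R b₀) {a : G} (ha : a ∈ Subgroup.zpowers b₀) :
    R ≤ Subgroup.normalizer ((Sc S a : Subgroup G) : Set G) :=
  normalizer_inf h.T.RS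
    (normalizer_centralizer_singleton (fun g hg => (h.R_comm_of_mem ha g hg).symm))

theorem R_norm_Xc_b (h : Red p s A V S R b₀) {a : G} (ha : a ∈ Subgroup.zpowers b₀) :
    R ≤ Subgroup.normalizer ((Xc V S a : Subgroup G) : Set G) :=
  normalizer_commutator h.T.RV (h.R_norm_Sc ha)

theorem S_norm_K' (h : Red p s A V S R b₀)
    (hSS : ⁅S, S⁆ ≤ Subgroup.centralizer (V : Set G)) (a : G) :
    S ≤ Subgroup.normalizer
      ((S ⊓ Subgroup.centralizer ((Xc V S a : Subgroup G) : Set G) : Subgroup G) : Set G) :=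
  normalizer_inf Subgroup.le_normalizer (normalizer_centralizer (h.T.S_norm_Xc hSS a))

theorem R_le_stab_b (h : Red p s A V S R b₀)
    (hSS : ⁅S, S⁆ ≤ Subgroup.centralizer (V : Set G)) {a : G} (ha : a ∈ Subgroup.zpowers b₀)
    (ha1 : a ≠ 1) :
    R ≤ stabMod S (S ⊓ Subgroup.centralizer ((Xc V S a : Subgroup G) : Set G)) := by
  intro x hx
  have haA := h.mem_A_of_mem ha
  have hB : Subgroup.zpowers a ≤ A := h.T.elA.zpowers_le haA
  have hax : a * x = x * a := h.R_comm_of_mem ha x hx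
  have hRB : R ≤ Subgroup.normalizer ((⁅S, Subgroup.zpowers a⁆ : Subgroup G) : Set G) := by
    apply normalizer_commutator h.T.RS
    intro g hg
    exact normalizer_zpowers_of_commute (h.R_comm_of_mem ha g hg).symm
  have h26 := Cfsg.Agent.S0026.result (Subgroup.zpowers a) S (hB.trans h.T.AS)
    (h.T.copAS hB (le_refl S)) (Or.inl (Tower.zpowers_solv a))
  have hS : S ≤ fixMod (S ⊓ Subgroup.centralizer ((Xc V S a : Subgroup G) : Set G)) x := by
    conv_lhs => rw [← h26]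
    apply sup_le
    · intro y hy
      have hyK' := h.T.comm_zpowers_le hSS haA ha1 hy
      refine ⟨h.S_norm_K' hSS a hyK'.1, ?_⟩
      exact mul_mem (inv_mem hyK') (h.T.comm_zpowers_le hSS haA ha1 (nmem (hRB hx) hy))
    · intro y hy
      refine ⟨h.S_norm_K' hSS a hy.1, ?_⟩
      have hay : a * y = y * a :=
        Subgroup.mem_centralizer_iff.mp hy.2 a (Subgroup.mem_zpowers a)
      have hyx := h.T.nilSR a haA ha1 y hy.1 hay x hx hax
      have e : y⁻¹ * (x * y * x⁻¹) = 1 := by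
        rw [← hyx]; group
      rw [e]; exact one_mem _
  exact ⟨h.T.RS hx, fun y hy => (hS hy).2⟩

theorem conjD_le (h : Red p s A V S R b₀) (a : G) {x : G} (hx : x ∈ R) :
    (Sc S a).map (MulAut.conj x).toMonoidHom ≤ S := by
  rintro _ ⟨u, hu, rfl⟩
  exact nmem (h.T.RS hx) hu.1

theorem map_Xc (h : Red p s A V S R b₀) (a : G) {x : G} (hx : x ∈ R) :
    (Xc V S a).map (MulAut.conj x).toMonoidHom = ⁅V, (Sc S a).map (MulAut.conj x).toMonoidHom⁆ := by
  have e : V.map (MulAut.conj x).toMonoidHom = V :=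
    Subgroup.mem_normalizer_iff_map_conj_eq.mp (h.T.RV hx)
  rw [Xc, Subgroup.map_commutator, e]

theorem pow_coprime_mem {E : Subgroup G} {b : G} {n p : ℕ} (hp : p.Prime) (hb : b ^ p = 1)
    (hn : n.Coprime p) (hE : b ^ n ∈ E) : b ∈ E := by
  obtain ⟨j, -, hj⟩ := Nat.exists_mul_mod_eq_one_of_coprime hn hp.one_lt
  have e : (b ^ n) ^ j = b := by
    rw [← pow_mul, pow_eq_pow_mod (n * j) hb, hj, pow_one]
  rw [← e]
  exact pow_mem hE j

theorem U2_bot (h : Red p s A V S R b₀)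
    (hSS : ⁅S, S⁆ ≤ Subgroup.centralizer (V : Set G)) {a : G} (haA : a ∈ A)
    (ha : a ∉ Subgroup.zpowers b₀) {x : G} (hx : x ∈ R) {c : G} (hc : c ∈ A) (hc1 : c ≠ 1)
    (hca : c ∉ Subgroup.zpowers a) :
    ⁅Xc V S c, (Sc S a).map (MulAut.conj x).toMonoidHom⁆ = ⊥ := by
  have ha1 : a ≠ 1 := by
    rintro rfl
    exact ha (one_mem _)
  obtain ⟨D, hD⟩ : ∃ D : Subgroup G, D = (Sc S a).map (MulAut.conj x).toMonoidHom := ⟨_, rfl⟩
  rw [← hD]
  have hDS : D ≤ S := by rw [hD]; exact h.conjD_le a hx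
  have hDc : D ≤ Subgroup.normalizer ((Xc V S c : Subgroup G) : Set G) :=
    hDS.trans (h.T.S_norm_Xc hSS c)
  have hU₂c : ⁅Xc V S c, D⁆ ≤ Xc V S c := Subgroup.le_normalizer_iff_commutator_le_left.mp hDc
  have hU₂U : ⁅Xc V S c, D⁆ ≤ (Xc V S a).map (MulAut.conj x).toMonoidHom := by
    rw [h.map_Xc a hx, ← hD]
    exact Subgroup.commutator_mono (h.T.Xc_le c) (le_refl D)
  have hcE : Subgroup.zpowers c ≤
      stabMod S (S ⊓ Subgroup.centralizer ((⁅Xc V S c, D⁆ : Subgroup G) : Set G)) :=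
    (h.T.zpowers_le_stab hSS hc hc1).trans
      (stabMod_mono S (inf_le_inf_left S (Subgroup.centralizer_le hU₂c)))
  have haE : ∀ a' ∈ Subgroup.zpowers a, x * a' * x⁻¹ ∈
      stabMod S (S ⊓ Subgroup.centralizer ((⁅Xc V S c, D⁆ : Subgroup G) : Set G)) := by
    intro a' ha'
    apply stabMod_conj (X := Xc V S a) (h.T.RS hx) _ (h.T.zpowers_le_stab hSS haA ha1 ha')
    intro u hu
    obtain ⟨w, hw, rfl⟩ := hU₂U hu
    have e : x⁻¹ * (MulAut.conj x).toMonoidHom w * x = w := by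
      simp only [MulEquiv.coe_toMonoidHom, MulAut.conj_apply]; group
    rw [e]; exact hw
  by_cases hcb : c ∈ Subgroup.zpowers b₀
  · have hzc : Subgroup.zpowers c = Subgroup.zpowers b₀ :=
      h.T.elA.zpowers_eq_of_mem h.hb₀A hcb hc1
    have hac : a ∉ Subgroup.zpowers c := by rw [hzc]; exact ha
    have h1 : Sc S a ≤ Subgroup.centralizer ((Xc V S c : Subgroup G) : Set G) :=
      h.T.Sc_le_cent hSS hc hc1 haA hac
    have h2 : ⁅Xc V S c, Sc S a⁆ = ⊥ := by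
      rw [Subgroup.commutator_comm, Subgroup.commutator_eq_bot_iff_le_centralizer]
      exact h1
    have e : (Xc V S c).map (MulAut.conj x).toMonoidHom = Xc V S c :=
      Subgroup.mem_normalizer_iff_map_conj_eq.mp (h.R_norm_Xc_b hcb hx)
    rw [hD, ← e, ← Subgroup.map_commutator, h2, Subgroup.map_bot]
  · have hsup : Subgroup.zpowers b₀ ⊔ Subgroup.zpowers a = A :=
      h.T.elA.sup_zpowers_eq h.hb₀A h.hb₀1 haA ha
    have hcsup : c ∈ Subgroup.zpowers b₀ ⊔ Subgroup.zpowers a := by rw [hsup]; exact hc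
    obtain ⟨b', hb', a', ha', hcba⟩ :=
      ElAb.mem_sup_zpowers (h.T.elA.comm b₀ h.hb₀A a haA) hcsup
    have hb'A : b' ∈ A := h.T.elA.zpowers_le h.hb₀A hb'
    have ha'A : a' ∈ A := h.T.elA.zpowers_le haA ha'
    have hb'1 : b' ≠ 1 := by
      rintro rfl
      rw [one_mul] at hcba
      exact hca (hcba ▸ ha')
    have ha'1 : a' ≠ 1 := by
      rintro rfl
      rw [mul_one] at hcba
      exact hcb (hcba ▸ hb')
    have hyR : x * (a'⁻¹ * x⁻¹ * a') ∈ R := mul_mem hx (nmem' (h.T.AR ha'A) (inv_mem hx))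
    have hyb : Commute (x * (a'⁻¹ * x⁻¹ * a')) b' :=
      (h.R_comm_of_mem hb' _ hyR).symm
    have hyE : (x * (a'⁻¹ * x⁻¹ * a')) * b' ∈
        stabMod S (S ⊓ Subgroup.centralizer ((⁅Xc V S c, D⁆ : Subgroup G) : Set G)) := by
      have e : (x * (a'⁻¹ * x⁻¹ * a')) * b' = (x * a'⁻¹ * x⁻¹) * c := by
        rw [hcba, h.T.elA.comm b' hb'A a' ha'A]; group
      rw [e]
      exact mul_mem (haE _ (inv_mem ha')) (hcE (Subgroup.mem_zpowers c))
    have hyn : (x * (a'⁻¹ * x⁻¹ * a')) ^ Nat.card R = 1 := by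
      have := pow_card_eq_one' (G := ↥R) (x := ⟨_, hyR⟩)
      exact congrArg Subtype.val this
    have hb'n : b' ^ Nat.card R ∈
        stabMod S (S ⊓ Subgroup.centralizer ((⁅Xc V S c, D⁆ : Subgroup G) : Set G)) := by
      have := pow_mem hyE (Nat.card R)
      rwa [hyb.mul_pow, hyn, one_mul] at this
    have hb'E := pow_coprime_mem h.T.elA.hp (h.T.elA.exp b' hb'A) h.T.RcopP hb'n
    have ha'E : a' ∈
        stabMod S (S ⊓ Subgroup.centralizer ((⁅Xc V S c, D⁆ : Subgroup G) : Set G)) := by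
      have e : a' = b'⁻¹ * c := by rw [hcba]; group
      rw [e]
      exact mul_mem (inv_mem hb'E) (hcE (Subgroup.mem_zpowers c))
    have hb'a' : b' ∉ Subgroup.zpowers a' := by
      intro hmem
      have h1 : Subgroup.zpowers a' = Subgroup.zpowers a :=
        h.T.elA.zpowers_eq_of_mem haA ha' ha'1
      rw [h1] at hmem
      have h2 : Subgroup.zpowers b' = Subgroup.zpowers a :=
        h.T.elA.zpowers_eq_of_mem haA hmem hb'1
      have h3 : Subgroup.zpowers b' = Subgroup.zpowers b₀ :=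
        h.T.elA.zpowers_eq_of_mem h.hb₀A hb' hb'1
      apply ha
      rw [← h3, h2]
      exact Subgroup.mem_zpowers a
    have hsup' := h.T.elA.sup_zpowers_eq ha'A ha'1 hb'A hb'a'
    have hAE : A ≤
        stabMod S (S ⊓ Subgroup.centralizer ((⁅Xc V S c, D⁆ : Subgroup G) : Set G)) := by
      rw [← hsup']
      exact sup_le (Subgroup.zpowers_le.mpr ha'E) (Subgroup.zpowers_le.mpr hb'E)
    have hSA : ⁅S, A⁆ = S :=
      Tower.comm_eq_self h.T.AS (h.T.copAS (le_refl A) (le_refl S))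
        (Or.inr (h.T.solvS (le_refl S))) (fun k hk hfix => h.T.fpfS k hk hfix)
    have hSU₂ : S ≤ Subgroup.centralizer ((⁅Xc V S c, D⁆ : Subgroup G) : Set G) := by
      conv_lhs => rw [← hSA]
      exact (commutator_le_of_le_stabMod hAE).trans inf_le_right
    have h27 := Cfsg.Agent.S0027.result D (Xc V S c) hDc (h.T.copSV hDS (h.T.Xc_le c))
      (Or.inr (h.T.solvV (h.T.Xc_le c)))
    rw [← h27, Subgroup.commutator_eq_bot_iff_le_centralizer, Subgroup.le_centralizer_iff]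
    exact hDS.trans hSU₂

theorem Sc_eq_of_zpowers {S : Subgroup G} {a c : G}
    (hz : Subgroup.zpowers c = Subgroup.zpowers a) : Sc S c = Sc S a := by
  ext y
  rw [Tower.mem_Sc, Tower.mem_Sc]
  have h1 : c ∈ Subgroup.zpowers a := hz ▸ Subgroup.mem_zpowers c
  have h2 : a ∈ Subgroup.zpowers c := hz.symm ▸ Subgroup.mem_zpowers a
  constructor
  · rintro ⟨hy, hcy⟩
    exact ⟨hy, Tower.commute_of_mem_zpowers h2 hcy⟩
  · rintro ⟨hy, hay⟩
    exact ⟨hy, Tower.commute_of_mem_zpowers h1 hay⟩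

theorem V_norm_sub (h : Red p s A V S R b₀) {X : Subgroup G} (hX : X ≤ V) :
    V ≤ Subgroup.normalizer (X : Set G) := by
  apply conj_mem_of_normalizer_le
  intro g hg u hu
  have e : g * u * g⁻¹ = u := by
    rw [h.T.Vcomm g hg u (hX hu)]; group
  rw [e]; exact hu

theorem comm_VS_le (h : Red p s A V S R b₀) :
    ⁅V, S⁆ ≤ ⨆ c : {c : G // c ∈ A ∧ c ≠ 1}, Xc V S c.1 := by
  apply commutator_le_of_le_stabMod (K := ⨆ c : {c : G // c ∈ A ∧ c ≠ 1}, Xc V S c.1)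
  apply h.T.sup58 h.T.AS (h.T.copAS (le_refl A) (le_refl S))
  intro c hc hc1
  apply le_stabMod_of_commutator_le ((Tower.Sc_le S c).trans h.T.SV)
  exact le_iSup (fun c : {c : G // c ∈ A ∧ c ≠ 1} => Xc V S c.1) ⟨c, hc, hc1⟩

theorem conj_Xc_le (h : Red p s A V S R b₀)
    (hSS : ⁅S, S⁆ ≤ Subgroup.centralizer (V : Set G)) {a : G} (haA : a ∈ A)
    (ha : a ∉ Subgroup.zpowers b₀) {x : G} (hx : x ∈ R) :
    (Xc V S a).map (MulAut.conj x).toMonoidHom ≤ Xc V S a := by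
  have ha1 : a ≠ 1 := by
    rintro rfl
    exact ha (one_mem _)
  rw [h.map_Xc a hx]
  obtain ⟨D, hD⟩ : ∃ D : Subgroup G, D = (Sc S a).map (MulAut.conj x).toMonoidHom := ⟨_, rfl⟩
  have hDS : D ≤ S := by rw [hD]; exact h.conjD_le a hx
  have h27 := Cfsg.Agent.S0027.result D V (hDS.trans h.T.SV) (h.T.copSV hDS (le_refl V))
    (Or.inr (h.T.solvV (le_refl V)))
  have hWV : (⨆ c : {c : G // c ∈ A ∧ c ≠ 1}, Xc V S c.1) ≤ V :=
    iSup_le (fun c => h.T.Xc_le c.1)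
  have hWD : ⁅(⨆ c : {c : G // c ∈ A ∧ c ≠ 1}, Xc V S c.1), D⁆ ≤ Xc V S a := by
    apply comm_iSup_le
    · exact hWV.trans (h.V_norm_sub (h.T.Xc_le a))
    · rintro ⟨c, hc, hc1⟩
      by_cases hca : c ∈ Subgroup.zpowers a
      · have hz := h.T.elA.zpowers_eq_of_mem haA hca hc1
        have e : Xc V S c = Xc V S a := by
          rw [Xc, Xc, Sc_eq_of_zpowers hz]
        show ⁅Xc V S c, D⁆ ≤ Xc V S a
        rw [e]
        exact Subgroup.le_normalizer_iff_commutator_le_left.mp (hDS.trans (h.T.S_norm_Xc hSS a))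
      · show ⁅Xc V S c, D⁆ ≤ Xc V S a
        rw [hD, h.U2_bot hSS haA ha hx hc hc1 hca]
        exact bot_le
  rw [← hD, ← h27]
  calc ⁅⁅V, D⁆, D⁆ ≤ ⁅⁅V, S⁆, D⁆ :=
        Subgroup.commutator_mono (Subgroup.commutator_mono (le_refl V) hDS) (le_refl D)
    _ ≤ ⁅(⨆ c : {c : G // c ∈ A ∧ c ≠ 1}, Xc V S c.1), D⁆ :=
        Subgroup.commutator_mono h.comm_VS_le (le_refl D)
    _ ≤ Xc V S a := hWD

theorem R_norm_Xc (h : Red p s A V S R b₀)
    (hSS : ⁅S, S⁆ ≤ Subgroup.centralizer (V : Set G)) {a : G} (haA : a ∈ A) :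
    R ≤ Subgroup.normalizer ((Xc V S a : Subgroup G) : Set G) := by
  by_cases ha : a ∈ Subgroup.zpowers b₀
  · exact h.R_norm_Xc_b ha
  · apply conj_mem_of_normalizer_le
    intro x hx u hu
    apply h.conj_Xc_le hSS haA ha hx
    exact ⟨u, hu, rfl⟩

theorem R_le_of_psi (h : Red p s A V S R b₀) {a : G} (haA : a ∈ A)
    (ha : a ∉ Subgroup.zpowers b₀) {E : Subgroup G}
    (hE : ∀ x ∈ R, x * a⁻¹ * x⁻¹ * a ∈ E) : R ≤ E := by
  have hsup : Subgroup.zpowers b₀ ⊔ Subgroup.zpowers a = A :=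
    h.T.elA.sup_zpowers_eq h.hb₀A h.hb₀1 haA ha
  have hmem : ∀ x ∈ R, x * a⁻¹ * x⁻¹ * a ∈ R := by
    intro x hx
    have e : x * a⁻¹ * x⁻¹ * a = x * (a⁻¹ * x⁻¹ * a) := by group
    rw [e]
    exact mul_mem hx (nmem' (h.T.AR haA) (inv_mem hx))
  obtain ⟨ψ, hψ⟩ : ∃ ψ : ↥R → ↥R, ∀ x : ↥R, ((ψ x : ↥R) : G) = (x : G) * a⁻¹ * (x : G)⁻¹ * a :=
    ⟨fun x => ⟨(x : G) * a⁻¹ * (x : G)⁻¹ * a, hmem x x.2⟩, fun x => rfl⟩
  have hinj : Function.Injective ψ := by
    intro x x' hxx'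
    have h1 : (x : G) * a⁻¹ * (x : G)⁻¹ * a = (x' : G) * a⁻¹ * (x' : G)⁻¹ * a := by
      rw [← hψ, ← hψ, hxx']
    have h2 : (x : G) * a⁻¹ * (x : G)⁻¹ = (x' : G) * a⁻¹ * (x' : G)⁻¹ := mul_right_cancel h1
    have hd : (x' : G)⁻¹ * (x : G) ∈ R := mul_mem (inv_mem x'.2) x.2
    have h3 : a * ((x' : G)⁻¹ * (x : G)) = ((x' : G)⁻¹ * (x : G)) * a := by
      have e1 : a * ((x' : G)⁻¹ * (x : G)) =
          a * (x' : G)⁻¹ * ((x : G) * a⁻¹ * (x : G)⁻¹) * (x : G) * a := by group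
      rw [e1, h2]; group
    have h4 := h.T.fpfR _ hd (h.T.commute_all hsup (h.hb₀R _ hd) h3)
    apply Subtype.ext
    have : (x : G) = (x' : G) * ((x' : G)⁻¹ * (x : G)) := by group
    rw [this, h4, mul_one]
  have hsurj := Finite.injective_iff_surjective.mp hinj
  intro x hx
  obtain ⟨x₀, hx₀⟩ := hsurj ⟨x, hx⟩
  have h1 := hψ x₀
  rw [hx₀] at h1
  have h2 : x = (x₀ : G) * a⁻¹ * (x₀ : G)⁻¹ * a := h1
  rw [h2]
  exact hE _ x₀.2

theorem R_le_stab (h : Red p s A V S R b₀)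
    (hSS : ⁅S, S⁆ ≤ Subgroup.centralizer (V : Set G)) {a : G} (haA : a ∈ A) (ha1 : a ≠ 1) :
    R ≤ stabMod S (S ⊓ Subgroup.centralizer ((Xc V S a : Subgroup G) : Set G)) := by
  by_cases ha : a ∈ Subgroup.zpowers b₀
  · exact h.R_le_stab_b hSS ha ha1
  · apply h.R_le_of_psi haA ha
    intro x hx
    have haE := h.T.c_mem_stab hSS haA ha1
    have hRN := h.R_norm_Xc hSS haA
    refine mul_mem ?_ haE
    apply stabMod_conj (X := Xc V S a) (h.T.RS hx) _ (inv_mem haE)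
    intro u hu
    exact nmem' (hRN hx) hu

theorem caseOne (h : Red p s A V S R b₀)
    (hSS : ⁅S, S⁆ ≤ Subgroup.centralizer (V : Set G)) :
    S ≤ Subgroup.centralizer (V : Set G) := by
  apply h.T.sup58 h.T.AS (h.T.copAS (le_refl A) (le_refl S))
  intro a haA ha1
  have h1 : S ≤ Subgroup.centralizer ((Xc V S a : Subgroup G) : Set G) := by
    conv_lhs => rw [← h.hSR]
    exact (commutator_le_of_le_stabMod (h.R_le_stab hSS haA ha1)).trans inf_le_right
  have h27 := Cfsg.Agent.S0027.result (Sc S a) V ((Tower.Sc_le S a).trans h.T.SV)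
    (h.T.copSV (Tower.Sc_le S a) (le_refl V)) (Or.inr (h.T.solvV (le_refl V)))
  have h2 : ⁅Xc V S a, Sc S a⁆ = ⊥ := by
    rw [Subgroup.commutator_eq_bot_iff_le_centralizer, Subgroup.le_centralizer_iff]
    exact (Tower.Sc_le S a).trans h1
  have h3 : ⁅V, Sc S a⁆ = ⊥ := by
    rw [← h27]; exact h2
  rw [Subgroup.commutator_comm, Subgroup.commutator_eq_bot_iff_le_centralizer] at h3
  exact h3

end Red




end Cfsg.Agent.Lib.Helper1.Ward
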