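import Mathlib
import Cfsg.Agent.Lib.Helper1.Ward.CaseOne

set_option autoImplicit false
set_option linter.unusedSectionVars false

open scoped commutatorElement

namespace Cfsg.Agent.Lib.Helper1.Ward

variable {G : Type*} [Group G] [Finite G]

abbrev KK (V S : Subgroup G) : Subgroup G := S ⊓ Subgroup.centralizer (V : Set G)

abbrev ZZ (V S : Subgroup G) : Subgroup G := S ⊓ stabMod S (KK V S)

abbrev S2 (V S R : Subgroup G) : Subgroup G := S ⊓ ⨅ x : R, fixMod (ZZ V S) (x : G)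

abbrev Zc (V S : Subgroup G) (a : G) : Subgroup G := ZZ V S ⊓ Subgroup.centralizer ({a} : Set G)

abbrev Yc (V S : Subgroup G) (a : G) : Subgroup G := ⁅V, Zc V S a⁆

abbrev Ka (V S : Subgroup G) (a : G) : Subgroup G :=
  S ⊓ Subgroup.centralizer ((Yc V S a : Subgroup G) : Set G)

theorem derived_ne_self {S : Subgroup G} (hsolv : Group.IsSolvable S) (hne : S ≠ ⊥) :
    ⁅S, S⁆ ≠ S := by
  intro h
  have : Nontrivial S := (Subgroup.nontrivial_iff_ne_bot S).mpr hne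
  have h1 := Group.IsSolvable.commutator_lt_top_of_nontrivial ↥S
  have h2 : (commutator ↥S).map S.subtype = (⊤ : Subgroup ↥S).map S.subtype := by
    rw [Subgroup.map_subtype_commutator, h, ← MonoidHom.range_eq_map, Subgroup.range_subtype]
  have h3 := Subgroup.map_injective S.subtype_injective h2
  exact h1.ne h3

namespace Red

variable {p s : ℕ} {A V S R : Subgroup G} {b₀ : G}

theorem norm_KK (h : Red p s A V S R b₀) {E : Subgroup G}
    (hS : E ≤ Subgroup.normalizer (S : Set G)) (hV : E ≤ Subgroup.normalizer (V : Set G)) :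
    E ≤ Subgroup.normalizer ((KK V S : Subgroup G) : Set G) :=
  normalizer_inf hS (normalizer_centralizer hV)

theorem norm_ZZ (h : Red p s A V S R b₀) {E : Subgroup G}
    (hS : E ≤ Subgroup.normalizer (S : Set G)) (hV : E ≤ Subgroup.normalizer (V : Set G)) :
    E ≤ Subgroup.normalizer ((ZZ V S : Subgroup G) : Set G) :=
  normalizer_inf hS (normalizer_stabMod hS (h.norm_KK hS hV))

theorem ZZ_le (V S : Subgroup G) : ZZ V S ≤ S := inf_le_left

theorem sub_le_Z (h : Red p s A V S R b₀) {N₁ : Subgroup G} (hN₁S : N₁ ≤ S)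
    (hS : S ≤ Subgroup.normalizer (N₁ : Set G)) (hR : R ≤ Subgroup.normalizer (N₁ : Set G))
    (hA : A ≤ Subgroup.normalizer (N₁ : Set G)) (hne : N₁ ≠ S) : N₁ ≤ ZZ V S := by
  have h1 : ⁅N₁, R⁆ ≤ KK V S :=
    le_inf ((Subgroup.le_normalizer_iff_commutator_le_left.mp hR).trans hN₁S)
      (h.sub N₁ hN₁S hA hR hne)
  have hSK := h.norm_KK (Subgroup.le_normalizer (H := S)) h.T.SV
  have hRK := h.norm_KK h.T.RS h.T.RV
  have h3 : ⁅⁅S, R⁆, N₁⁆ ≤ KK V S := by
    apply three_sub_rel hSK hRK (hN₁S.trans hSK)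
    · rw [Subgroup.commutator_comm R N₁]
      exact (Subgroup.commutator_mono h1 (le_refl S)).trans
        (Subgroup.le_normalizer_iff_commutator_le_left.mp hSK)
    · exact (Subgroup.commutator_mono
        (Subgroup.le_normalizer_iff_commutator_le_left.mp hS) (le_refl R)).trans h1
  rw [h.hSR] at h3
  exact le_inf hN₁S (le_stabMod_of_commutator_le (hN₁S.trans Subgroup.le_normalizer) h3)

theorem S_norm_ZZ (h : Red p s A V S R b₀) :
    S ≤ Subgroup.normalizer ((ZZ V S : Subgroup G) : Set G) :=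
  h.norm_ZZ Subgroup.le_normalizer h.T.SV

theorem R_norm_ZZ (h : Red p s A V S R b₀) :
    R ≤ Subgroup.normalizer ((ZZ V S : Subgroup G) : Set G) :=
  h.norm_ZZ h.T.RS h.T.RV

theorem A_norm_ZZ (h : Red p s A V S R b₀) :
    A ≤ Subgroup.normalizer ((ZZ V S : Subgroup G) : Set G) :=
  h.norm_ZZ h.T.AS h.T.AV

theorem comm_ZR_le (h : Red p s A V S R b₀) (hZ : ZZ V S ≠ S) :
    ⁅ZZ V S, R⁆ ≤ Subgroup.centralizer (V : Set G) :=
  h.sub (ZZ V S) (ZZ_le V S) h.A_norm_ZZ h.R_norm_ZZ hZ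

theorem comm_SZ_le (h : Red p s A V S R b₀) : ⁅S, ZZ V S⁆ ≤ KK V S :=
  commutator_le_of_le_stabMod inf_le_right

theorem S_ne_bot (h : Red p s A V S R b₀) (hZ : ZZ V S ≠ S) : S ≠ ⊥ := by
  intro hS
  apply hZ
  apply le_antisymm (ZZ_le V S)
  rw [hS]; exact bot_le

theorem derived_le_Z (h : Red p s A V S R b₀) (hZ : ZZ V S ≠ S) : ⁅S, S⁆ ≤ ZZ V S := by
  apply h.sub_le_Z (Subgroup.commutator_le_self S)
  · exact normalizer_commutator Subgroup.le_normalizer Subgroup.le_normalizer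
  · exact normalizer_commutator h.T.RS h.T.RS
  · exact normalizer_commutator h.T.AS h.T.AS
  · exact derived_ne_self (h.T.solvS (le_refl S)) (h.S_ne_bot hZ)

theorem mem_S2 (h : Red p s A V S R b₀) {y : G} :
    y ∈ S2 V S R ↔ y ∈ S ∧ ∀ x ∈ R, y⁻¹ * (x * y * x⁻¹) ∈ ZZ V S := by
  rw [S2, Subgroup.mem_inf, Subgroup.mem_iInf]
  constructor
  · rintro ⟨hy, hy2⟩
    exact ⟨hy, fun x hx => (hy2 ⟨x, hx⟩).2⟩
  · rintro ⟨hy, hy2⟩
    exact ⟨hy, fun x => ⟨h.S_norm_ZZ hy, hy2 x.1 x.2⟩⟩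

theorem Z_le_S2 (h : Red p s A V S R b₀) : ZZ V S ≤ S2 V S R := by
  intro z hz
  rw [h.mem_S2]
  exact ⟨ZZ_le V S hz, fun x hx => mul_mem (inv_mem hz) (nmem (h.R_norm_ZZ hx) hz)⟩

theorem S2_le (V S R : Subgroup G) : S2 V S R ≤ S := inf_le_left

theorem norm_S2 (h : Red p s A V S R b₀) {E : Subgroup G}
    (hS : E ≤ Subgroup.normalizer (S : Set G)) (hV : E ≤ Subgroup.normalizer (V : Set G))
    (hR : E ≤ Subgroup.normalizer (R : Set G)) :
    E ≤ Subgroup.normalizer ((S2 V S R : Subgroup G) : Set G) := by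
  apply conj_mem_of_normalizer_le
  intro g hg y hy
  rw [h.mem_S2] at hy ⊢
  refine ⟨nmem (hS hg) hy.1, fun x hx => ?_⟩
  have hx' : g⁻¹ * x * g ∈ R := nmem' (hR hg) hx
  have h1 := nmem (h.norm_ZZ hS hV hg) (hy.2 _ hx')
  have e : (g * y * g⁻¹)⁻¹ * (x * (g * y * g⁻¹) * x⁻¹) =
      g * (y⁻¹ * (g⁻¹ * x * g * y * (g⁻¹ * x * g)⁻¹)) * g⁻¹ := by group
  rw [e]; exact h1

theorem S2_le_Z (h : Red p s A V S R b₀) (hZ : ZZ V S ≠ S) : S2 V S R ≤ ZZ V S := by
  apply h.sub_le_Z (S2_le V S R)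
  · apply conj_mem_of_normalizer_le
    intro g hg y hy
    have hy' := (h.mem_S2.mp hy).1
    have e : g * y * g⁻¹ = y * ⁅y⁻¹, g⁆ := by rw [commutatorElement_def]; group
    rw [e]
    refine mul_mem hy (h.Z_le_S2 (h.derived_le_Z hZ ?_))
    exact Subgroup.commutator_mem_commutator (inv_mem hy') hg
  · exact h.norm_S2 h.T.RS h.T.RV Subgroup.le_normalizer
  · exact h.norm_S2 h.T.AS h.T.AV h.T.AR
  · intro hS2
    apply hZ
    apply le_antisymm (ZZ_le V S)
    conv_lhs => rw [← h.hSR]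
    rw [Subgroup.commutator_le]
    intro y hy x hx
    have hy2 : y⁻¹ ∈ S2 V S R := by rw [hS2]; exact inv_mem hy
    have h1 := (h.mem_S2.mp hy2).2 x hx
    have e : ⁅y, x⁆ = y⁻¹⁻¹ * (x * y⁻¹ * x⁻¹) := by rw [commutatorElement_def]; group
    rw [e]; exact h1

theorem Sc_b₀_le_Z (h : Red p s A V S R b₀) (hZ : ZZ V S ≠ S) : Sc S b₀ ≤ ZZ V S := by
  refine le_trans ?_ (h.S2_le_Z hZ)
  intro y hy
  have hy' := Tower.mem_Sc.mp hy
  rw [h.mem_S2]
  refine ⟨hy'.1, fun x hx => ?_⟩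
  have hyx := h.T.nilSR b₀ h.hb₀A h.hb₀1 y hy'.1 hy'.2 x hx (h.hb₀R x hx)
  have e : y⁻¹ * (x * y * x⁻¹) = 1 := by rw [← hyx]; group
  rw [e]; exact one_mem _

theorem Zc_le_Z (V S : Subgroup G) (a : G) : Zc V S a ≤ ZZ V S := inf_le_left

theorem Zc_le_S (V S : Subgroup G) (a : G) : Zc V S a ≤ S := (Zc_le_Z V S a).trans (ZZ_le V S)

theorem mem_Zc {V S : Subgroup G} {a y : G} : y ∈ Zc V S a ↔ y ∈ ZZ V S ∧ a * y = y * a := by
  rw [Zc, Subgroup.mem_inf, Subgroup.mem_centralizer_singleton_iff]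
  constructor
  · rintro ⟨h1, h2⟩; exact ⟨h1, h2.symm⟩
  · rintro ⟨h1, h2⟩; exact ⟨h1, h2.symm⟩

theorem Yc_le (h : Red p s A V S R b₀) (a : G) : Yc V S a ≤ V :=
  Subgroup.le_normalizer_iff_commutator_le_left.mp ((Zc_le_S V S a).trans h.T.SV)

theorem A_norm_Zc (h : Red p s A V S R b₀) {a : G} (ha : a ∈ A) :
    A ≤ Subgroup.normalizer ((Zc V S a : Subgroup G) : Set G) :=
  normalizer_inf h.A_norm_ZZ (h.T.A_norm_cent ha)

theorem A_norm_Yc (h : Red p s A V S R b₀) {a : G} (ha : a ∈ A) :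
    A ≤ Subgroup.normalizer ((Yc V S a : Subgroup G) : Set G) :=
  normalizer_commutator h.T.AV (h.A_norm_Zc ha)

theorem S_norm_Yc (h : Red p s A V S R b₀) (a : G) :
    S ≤ Subgroup.normalizer ((Yc V S a : Subgroup G) : Set G) := by
  apply normalizer_commutator_of_mod h.T.SV
  intro g hg u hu
  have hu' : u⁻¹ ∈ stabMod S (KK V S) := inv_mem (Zc_le_Z V S a hu).2
  have h1 : ⁅g, u⁻¹⁆ ∈ KK V S := comm_mem_of_mem_stabMod hu' hg
  have e : u⁻¹ * (g * u * g⁻¹) = ⁅g, u⁻¹⁆⁻¹ := by rw [commutatorElement_def]; group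
  rw [e]
  exact inv_mem h1.2

theorem R_norm_Yc (h : Red p s A V S R b₀) (hZ : ZZ V S ≠ S) (a : G) :
    R ≤ Subgroup.normalizer ((Yc V S a : Subgroup G) : Set G) := by
  apply normalizer_commutator_of_mod h.T.RV
  intro g hg u hu
  apply h.comm_ZR_le hZ
  have e : u⁻¹ * (g * u * g⁻¹) = ⁅u⁻¹, g⁆ := by rw [commutatorElement_def]; group
  rw [e]
  exact Subgroup.commutator_mem_commutator (inv_mem (Zc_le_Z V S a hu)) hg

theorem Yc_fpf (h : Red p s A V S R b₀) {a : G} (ha : a ∈ A) (ha1 : a ≠ 1) :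
    ∀ v ∈ Yc V S a, a * v = v * a → v = 1 := by
  intro v hv hav
  have hvV : v ∈ V := h.Yc_le a hv
  have := h.T.commV (le_refl V)
  have h55 := (Cfsg.Agent.S0055.result (Zc V S a) V ((Zc_le_S V S a).trans h.T.SV)
    (h.T.copSV (Zc_le_S V S a) (le_refl V))).1
  have h1 : v ∈ (V ⊓ Subgroup.centralizer ((Zc V S a : Subgroup G) : Set G)) ⊓ ⁅V, Zc V S a⁆ := by
    refine Subgroup.mem_inf.mpr ⟨Subgroup.mem_inf.mpr ⟨hvV, ?_⟩, hv⟩
    rw [Subgroup.mem_centralizer_iff]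
    intro y hy
    have hy' := mem_Zc.mp hy
    exact (h.T.nilVS a ha ha1 v hvV hav y (ZZ_le V S hy'.1) hy'.2).symm
  rw [h55, Subgroup.mem_bot] at h1
  exact h1

theorem KK_le_cent (h : Red p s A V S R b₀) {Y : Subgroup G} (hY : Y ≤ V) :
    KK V S ≤ Subgroup.centralizer (Y : Set G) :=
  inf_le_right.trans (Subgroup.centralizer_le hY)

theorem derived_Z_le (h : Red p s A V S R b₀) {Y : Subgroup G} (hY : Y ≤ V) :
    ⁅ZZ V S, ZZ V S⁆ ≤ Subgroup.centralizer (Y : Set G) :=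
  (Subgroup.commutator_mono (ZZ_le V S) (le_refl _)).trans (h.comm_SZ_le.trans (h.KK_le_cent hY))

theorem a_mem_stabZ (h : Red p s A V S R b₀) {a : G} (ha : a ∈ A) (ha1 : a ≠ 1) :
    a ∈ stabMod (ZZ V S) (ZZ V S ⊓ Subgroup.centralizer ((Yc V S a : Subgroup G) : Set G)) := by
  apply frob_internal h.T.elA.hp (ZZ V S) (Yc V S a) a
  · intro v hv w hw
    exact h.T.Vcomm v (h.Yc_le a hv) w (h.Yc_le a hw)
  · exact (ZZ_le V S).trans (h.S_norm_Yc a)
  · exact h.A_norm_Yc ha ha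
  · exact h.A_norm_ZZ ha
  · exact h.T.elA.exp a ha
  · exact h.T.copSp (ZZ_le V S)
  · exact (h.T.copSV (ZZ_le V S) (h.Yc_le a)).symm
  · exact h.derived_Z_le (h.Yc_le a)
  · exact h.Yc_fpf ha ha1

theorem Z_comm_A (h : Red p s A V S R b₀) : ⁅ZZ V S, A⁆ = ZZ V S :=
  Tower.comm_eq_self h.A_norm_ZZ (h.T.copAS (le_refl A) (ZZ_le V S))
    (Or.inr (h.T.solvS (ZZ_le V S))) (fun k hk hfix => h.T.fpfS k (ZZ_le V S hk) hfix)

theorem Sc_le_cent_Yc (h : Red p s A V S R b₀) {a a' : G} (ha : a ∈ A) (ha1 : a ≠ 1)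
    (ha' : a' ∈ A) (haa' : a' ∉ Subgroup.zpowers a) :
    Sc S a' ≤ Subgroup.centralizer ((Yc V S a : Subgroup G) : Set G) := by
  intro u hu
  have hu' := Tower.mem_Sc.mp hu
  have ha'1 : a' ≠ 1 := by
    rintro rfl
    exact haa' (one_mem _)
  have hPS : Subgroup.zpowers u ≤ S := Subgroup.zpowers_le.mpr hu'.1
  have hPY : Subgroup.zpowers u ≤ Subgroup.normalizer ((Yc V S a : Subgroup G) : Set G) :=
    hPS.trans (h.S_norm_Yc a)
  have hY_le : ⁅Yc V S a, Subgroup.zpowers u⁆ ≤ Yc V S a :=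
    Subgroup.le_normalizer_iff_commutator_le_left.mp hPY
  have hYV : ⁅Yc V S a, Subgroup.zpowers u⁆ ≤ V := hY_le.trans (h.Yc_le a)
  have ha'Y : a' ∈ Subgroup.normalizer
      ((⁅Yc V S a, Subgroup.zpowers u⁆ : Subgroup G) : Set G) := by
    have h1 : Subgroup.zpowers a' ≤ Subgroup.normalizer
        ((⁅Yc V S a, Subgroup.zpowers u⁆ : Subgroup G) : Set G) := by
      apply normalizer_commutator ((h.T.elA.zpowers_le ha').trans (h.A_norm_Yc ha))
      rw [Subgroup.zpowers_le]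
      exact normalizer_zpowers_of_commute hu'.2
    exact h1 (Subgroup.mem_zpowers a')
  have hZY : ZZ V S ≤ Subgroup.normalizer
      ((⁅Yc V S a, Subgroup.zpowers u⁆ : Subgroup G) : Set G) := by
    apply normalizer_commutator_of_mod ((ZZ_le V S).trans (h.S_norm_Yc a))
    intro g hg w hw
    exact h.KK_le_cent (h.Yc_le a) (hg.2.2 w (hPS hw))
  have hYfpf : ∀ v ∈ ⁅Yc V S a, Subgroup.zpowers u⁆, a' * v = v * a' → v = 1 := by
    intro v hv hav
    have hvV : v ∈ V := hYV hv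
    have hvu : v * u = u * v := h.T.nilVS a' ha' ha'1 v hvV hav u hu'.1 hu'.2
    have := h.T.commV (h.Yc_le a)
    have h55 := (Cfsg.Agent.S0055.result (Subgroup.zpowers u) (Yc V S a) hPY
      (h.T.copSV hPS (h.Yc_le a))).1
    have h1 : v ∈ (Yc V S a ⊓ Subgroup.centralizer ((Subgroup.zpowers u : Subgroup G) : Set G)) ⊓
        ⁅Yc V S a, Subgroup.zpowers u⁆ := by
      refine Subgroup.mem_inf.mpr ⟨Subgroup.mem_inf.mpr ⟨hY_le hv, ?_⟩, hv⟩
      rw [Subgroup.mem_centralizer_iff]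
      intro w hw
      exact Tower.commute_of_mem_zpowers hw hvu.symm
    rw [h55, Subgroup.mem_bot] at h1
    exact h1
  have ha'E : a' ∈ stabMod (ZZ V S) (ZZ V S ⊓ Subgroup.centralizer
      ((⁅Yc V S a, Subgroup.zpowers u⁆ : Subgroup G) : Set G)) := by
    apply frob_internal h.T.elA.hp (ZZ V S) (⁅Yc V S a, Subgroup.zpowers u⁆) a'
    · intro v hv w hw
      exact h.T.Vcomm v (hYV hv) w (hYV hw)
    · exact hZY
    · exact ha'Y
    · exact h.A_norm_ZZ ha'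
    · exact h.T.elA.exp a' ha'
    · exact h.T.copSp (ZZ_le V S)
    · exact (h.T.copSV (ZZ_le V S) hYV).symm
    · exact h.derived_Z_le hYV
    · exact hYfpf
  have haE : a ∈ stabMod (ZZ V S) (ZZ V S ⊓ Subgroup.centralizer
      ((⁅Yc V S a, Subgroup.zpowers u⁆ : Subgroup G) : Set G)) :=
    stabMod_mono (ZZ V S) (inf_le_inf_left (ZZ V S) (Subgroup.centralizer_le hY_le))
      (h.a_mem_stabZ ha ha1)
  have hsup := h.T.elA.sup_zpowers_eq ha ha1 ha' haa'
  have hAE : A ≤ stabMod (ZZ V S) (ZZ V S ⊓ Subgroup.centralizer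
      ((⁅Yc V S a, Subgroup.zpowers u⁆ : Subgroup G) : Set G)) := by
    rw [← hsup]
    exact sup_le (Subgroup.zpowers_le.mpr haE) (Subgroup.zpowers_le.mpr ha'E)
  have hZcY : ZZ V S ≤ Subgroup.centralizer
      ((⁅Yc V S a, Subgroup.zpowers u⁆ : Subgroup G) : Set G) := by
    conv_lhs => rw [← h.Z_comm_A]
    exact (commutator_le_of_le_stabMod hAE).trans inf_le_right
  have := h.T.commV (le_refl V)
  have h55 := (Cfsg.Agent.S0055.result (Zc V S a) V ((Zc_le_S V S a).trans h.T.SV)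
    (h.T.copSV (Zc_le_S V S a) (le_refl V))).1
  have hYbot : ⁅Yc V S a, Subgroup.zpowers u⁆ = ⊥ := by
    rw [eq_bot_iff, ← h55]
    refine le_inf (le_inf hYV ?_) hY_le
    rw [Subgroup.le_centralizer_iff]
    exact (Zc_le_Z V S a).trans hZcY
  rw [Subgroup.commutator_eq_bot_iff_le_centralizer, Subgroup.le_centralizer_iff] at hYbot
  exact hYbot (Subgroup.mem_zpowers u)

theorem norm_Ka (h : Red p s A V S R b₀) {E : Subgroup G} {a : G}
    (hS : E ≤ Subgroup.normalizer (S : Set G))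
    (hY : E ≤ Subgroup.normalizer ((Yc V S a : Subgroup G) : Set G)) :
    E ≤ Subgroup.normalizer ((Ka V S a : Subgroup G) : Set G) :=
  normalizer_inf hS (normalizer_centralizer hY)

theorem S_le_Ka_sup_Z (h : Red p s A V S R b₀) (hZ : ZZ V S ≠ S) {a : G} (ha : a ∈ A)
    (ha1 : a ≠ 1) : S ≤ Ka V S a ⊔ ZZ V S := by
  by_cases hab : a ∈ Subgroup.zpowers b₀
  · apply h.T.sup58 h.T.AS (h.T.copAS (le_refl A) (le_refl S))
    intro c hc hc1
    by_cases hca : c ∈ Subgroup.zpowers a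
    · have hz1 : Subgroup.zpowers c = Subgroup.zpowers a := h.T.elA.zpowers_eq_of_mem ha hca hc1
      have hz2 : Subgroup.zpowers a = Subgroup.zpowers b₀ :=
        h.T.elA.zpowers_eq_of_mem h.hb₀A hab ha1
      have e : Sc S c = Sc S b₀ := Sc_eq_of_zpowers (hz1.trans hz2)
      show Sc S c ≤ _
      rw [e]
      exact (h.Sc_b₀_le_Z hZ).trans le_sup_right
    · exact (le_inf (Tower.Sc_le S c) (h.Sc_le_cent_Yc ha ha1 hc hca)).trans le_sup_left
  · by_contra hne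
    have hN₁S : Ka V S a ⊔ ZZ V S ≤ S := sup_le inf_le_left (ZZ_le V S)
    have hN₁ne : Ka V S a ⊔ ZZ V S ≠ S := fun e => hne (le_of_eq e.symm)
    have hN₁Z : Ka V S a ⊔ ZZ V S ≤ ZZ V S := by
      apply h.sub_le_Z hN₁S _ _ _ hN₁ne
      · exact normalizer_sup (h.norm_Ka Subgroup.le_normalizer (h.S_norm_Yc a)) h.S_norm_ZZ
      · exact normalizer_sup (h.norm_Ka h.T.RS (h.R_norm_Yc hZ a)) h.R_norm_ZZ
      · exact normalizer_sup (h.norm_Ka h.T.AS (h.A_norm_Yc ha)) h.A_norm_ZZ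
    have hKaZ : Ka V S a ≤ ZZ V S := le_sup_left.trans hN₁Z
    have hS_fix : S ≤ fixMod (ZZ V S) a := by
      apply h.T.sup58 h.T.AS (h.T.copAS (le_refl A) (le_refl S))
      intro c hc hc1
      by_cases hca : c ∈ Subgroup.zpowers a
      · have hz1 : Subgroup.zpowers c = Subgroup.zpowers a :=
          h.T.elA.zpowers_eq_of_mem ha hca hc1
        have e : Sc S c = Sc S a := Sc_eq_of_zpowers hz1
        show Sc S c ≤ _
        rw [e]
        intro y hy
        have hy' := Tower.mem_Sc.mp hy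
        refine ⟨h.S_norm_ZZ hy'.1, ?_⟩
        have e2 : y⁻¹ * (a * y * a⁻¹) = 1 := by rw [hy'.2]; group
        rw [e2]; exact one_mem _
      · refine (le_inf (Tower.Sc_le S c) (h.Sc_le_cent_Yc ha ha1 hc hca)).trans (hKaZ.trans ?_)
        intro z hz
        exact ⟨Subgroup.le_normalizer hz, mul_mem (inv_mem hz) (nmem (h.A_norm_ZZ ha) hz)⟩
    have ha_stab : Subgroup.zpowers a ≤ stabMod S (ZZ V S) := by
      rw [Subgroup.zpowers_le]
      exact ⟨h.T.AS ha, fun y hy => (hS_fix hy).2⟩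
    have hSa : ⁅S, Subgroup.zpowers a⁆ ≤ ZZ V S := commutator_le_of_le_stabMod ha_stab
    have hB : Subgroup.zpowers a ≤ A := h.T.elA.zpowers_le ha
    have hsup : Subgroup.zpowers b₀ ⊔ Subgroup.zpowers a = A :=
      h.T.elA.sup_zpowers_eq h.hb₀A h.hb₀1 ha hab
    have hRa : ⁅R, Subgroup.zpowers a⁆ = R := by
      apply Tower.comm_eq_self (hB.trans h.T.AR) (h.T.copAR hB (le_refl R))
        (Or.inl (Tower.zpowers_solv a))
      intro x hx hfix
      exact h.T.fpfR x hx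
        (h.T.commute_all hsup (h.hb₀R x hx) (hfix a (Subgroup.mem_zpowers a)))
    have h3 : ⁅⁅Subgroup.zpowers a, R⁆, S⁆ ≤ ZZ V S := by
      apply three_sub_rel (hB.trans h.A_norm_ZZ) h.R_norm_ZZ h.S_norm_ZZ
      · rw [Subgroup.commutator_comm R S, h.hSR]
        exact hSa
      · exact (Subgroup.commutator_mono hSa (le_refl R)).trans
          (Subgroup.le_normalizer_iff_commutator_le_left.mp h.R_norm_ZZ)
    rw [Subgroup.commutator_comm (Subgroup.zpowers a) R, hRa, Subgroup.commutator_comm R S,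
      h.hSR] at h3
    exact hZ (le_antisymm (ZZ_le V S) h3)

theorem derived_le_Ka (h : Red p s A V S R b₀) (hZ : ZZ V S ≠ S) {a : G} (ha : a ∈ A)
    (ha1 : a ≠ 1) : ⁅S, S⁆ ≤ Ka V S a := by
  apply commutator_le_of_le_stabMod
  refine (h.S_le_Ka_sup_Z hZ ha ha1).trans (sup_le ?_ ?_)
  · intro k hk
    refine ⟨Subgroup.le_normalizer hk.1, fun y hy => ?_⟩
    have h1 : y⁻¹ * k * y ∈ Ka V S a :=
      nmem' (h.norm_Ka Subgroup.le_normalizer (h.S_norm_Yc a) hy) hk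
    have e : y⁻¹ * (k * y * k⁻¹) = y⁻¹ * k * y * k⁻¹ := by group
    rw [e]
    exact mul_mem h1 (inv_mem hk)
  · refine inf_le_right.trans (stabMod_mono S ?_)
    exact le_inf inf_le_left (h.KK_le_cent (h.Yc_le a))

theorem caseTwo (h : Red p s A V S R b₀) (hZ : ZZ V S ≠ S) : False := by
  have hS'Z := h.derived_le_Z hZ
  have hS'S : ⁅S, S⁆ ≤ S := Subgroup.commutator_le_self S
  have hZstab : ZZ V S ≤ stabMod V (V ⊓ Subgroup.centralizer ((⁅S, S⁆ : Subgroup G) : Set G)) := by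
    apply h.T.sup58 h.A_norm_ZZ (h.T.copAS (le_refl A) (ZZ_le V S))
    intro a ha ha1
    apply le_stabMod_of_commutator_le ((Zc_le_S V S a).trans h.T.SV)
    refine le_inf (h.Yc_le a) ?_
    rw [Subgroup.le_centralizer_iff]
    exact (h.derived_le_Ka hZ ha ha1).trans inf_le_right
  have hVZ := commutator_le_of_le_stabMod hZstab
  have hVS' : ⁅V, ⁅S, S⁆⁆ ≤ Subgroup.centralizer ((⁅S, S⁆ : Subgroup G) : Set G) :=
    (Subgroup.commutator_mono (le_refl V) hS'Z).trans (hVZ.trans inf_le_right)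
  have h27 := Cfsg.Agent.S0027.result ⁅S, S⁆ V (hS'S.trans h.T.SV)
    (h.T.copSV hS'S (le_refl V)) (Or.inr (h.T.solvV (le_refl V)))
  have h1 : ⁅⁅V, ⁅S, S⁆⁆, ⁅S, S⁆⁆ = ⊥ :=
    Subgroup.commutator_eq_bot_iff_le_centralizer.mpr hVS'
  rw [h27, Subgroup.commutator_comm, Subgroup.commutator_eq_bot_iff_le_centralizer] at h1
  have h2 : S ≤ stabMod S (KK V S) :=
    le_stabMod_of_commutator_le Subgroup.le_normalizer (le_inf hS'S h1)
  exact hZ (le_antisymm (ZZ_le V S) (le_inf (le_refl S) h2))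

end Red





end Cfsg.Agent.Lib.Helper1.Ward
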