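import Mathlib
import Cfsg.Prelude.Def_OddOrderLocal
import Cfsg.Agent.Lib.Helper1.Fitting
import Cfsg.Agent.Lib.Helper12.Local
import Cfsg.Agent.Lib.Helper18.PCore

set_option autoImplicit false

namespace Cfsg.Agent.Lib.Helper1.Ward

variable {Γ : Type*} [Group Γ]

theorem fitOf_normal (G : Subgroup Γ) [G.Normal] : (Cfsg.fittingOf G).Normal := by
  have hFchar : (Cfsg.fittingSubgroup ↥G).Characteristic :=
    Cfsg.Agent.Lib.Helper12.fittingSubgroup_characteristic ↥G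
  unfold Cfsg.fittingOf
  exact ConjAct.normal_of_characteristic_of_normal

theorem fitOf_le (G : Subgroup Γ) : Cfsg.fittingOf G ≤ G :=
  Subgroup.map_subtype_le _

theorem fitOf_nilpotent [Finite Γ] (G : Subgroup Γ) : Group.IsNilpotent ↥(Cfsg.fittingOf G) := by
  have h1 : Group.IsNilpotent ↥(Cfsg.fittingSubgroup ↥G) :=
    Cfsg.Agent.Lib.Helper1.fittingSubgroup_nilpotent
  unfold Cfsg.fittingOf
  exact (Group.isNilpotent_congr
    ((Cfsg.fittingSubgroup ↥G).equivMapOfInjective G.subtype G.subtype_injective)).mp h1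

theorem le_fitOf {N G : Subgroup Γ} (hNG : N ≤ G)
    (hGN : G ≤ Subgroup.normalizer (N : Set Γ)) (hnil : Group.IsNilpotent ↥N) :
    N ≤ Cfsg.fittingOf G := by
  have hn : (N.subgroupOf G).Normal := (Subgroup.normal_subgroupOf_iff_le_normalizer hNG).mpr hGN
  have hnil' : Group.IsNilpotent ↥(N.subgroupOf G) :=
    (Group.isNilpotent_congr (Subgroup.subgroupOfEquivOfLe hNG)).mpr hnil
  have h1 : N.subgroupOf G ≤ Cfsg.fittingSubgroup ↥G :=
    Cfsg.Agent.Lib.Helper1.le_fittingSubgroup hn hnil'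
  have h2 := Subgroup.map_mono (f := G.subtype) h1
  rw [Subgroup.map_subgroupOf_eq_of_le hNG] at h2
  exact h2

theorem fitOf_mono [Finite Γ] {M G : Subgroup Γ} [hM : M.Normal] (hMG : M ≤ G) :
    Cfsg.fittingOf M ≤ Cfsg.fittingOf G := by
  have hn := fitOf_normal M
  apply le_fitOf ((fitOf_le M).trans hMG) _ (fitOf_nilpotent M)
  rw [Subgroup.normalizer_eq_top]
  exact le_top

def Oq (G : Subgroup Γ) (q : ℕ) : Subgroup Γ := (Cfsg.pCore q ↥G).map G.subtype

theorem Oq_normal (G : Subgroup Γ) [G.Normal] (q : ℕ) : (Oq G q).Normal := by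
  have hchar : (Cfsg.pCore q ↥G).Characteristic :=
    Cfsg.Agent.Lib.Helper18.pCore_characteristic q ↥G
  unfold Oq
  exact ConjAct.normal_of_characteristic_of_normal

theorem Oq_le (G : Subgroup Γ) (q : ℕ) : Oq G q ≤ G := Subgroup.map_subtype_le _

theorem Oq_isPGroup (G : Subgroup Γ) (q : ℕ) : IsPGroup q ↥(Oq G q) :=
  (Cfsg.Agent.Lib.Helper18.pCore_isPGroup q ↥G).map _

theorem fitOf_eq_iSup [Finite Γ] (G : Subgroup Γ) :
    Cfsg.fittingOf G = ⨆ q : Nat.Primes, Oq G (q : ℕ) := by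
  unfold Cfsg.fittingOf Oq
  rw [Cfsg.Agent.Lib.Helper1.fittingSubgroup_eq_iSup_pCore, Subgroup.map_iSup]

end Cfsg.Agent.Lib.Helper1.Ward
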