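import Mathlib
import Cfsg.Agent.Lib.Helper1.FPF.Main2
import Cfsg.Agent.Lib.Helper1.Ward.ElemAb
import Cfsg.Agent.Lib.Helper1.Ward.StabMod

set_option autoImplicit false

namespace Cfsg.Agent.Lib.Helper1.Ward

universe u

variable {Γ : Type u} [Group Γ] [Finite Γ]

theorem exists_not_mem_zpowers {p : ℕ} {A : Subgroup Γ} (hA : ElAb p A) {a : Γ} (ha : a ∈ A) :
    ∃ a' ∈ A, a' ∉ Subgroup.zpowers a := by
  by_contra hcon
  push Not at hcon
  apply hA.not_isCyclic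
  refine ⟨⟨⟨a, ha⟩, fun x => ?_⟩⟩
  obtain ⟨i, hi⟩ := hcon x.1 x.2
  refine ⟨i, ?_⟩
  apply Subtype.ext
  simpa using hi

theorem cent_nilpotent {p : ℕ} {A G : Subgroup Γ} (hA : ElAb p A)
    (hAG : A ≤ Subgroup.normalizer (G : Set Γ))
    (hfpf : ∀ g ∈ G, (∀ a ∈ A, a * g = g * a) → g = 1) {a : Γ} (ha : a ∈ A) (ha1 : a ≠ 1) :
    Group.IsNilpotent ↥(G ⊓ Subgroup.centralizer ({a} : Set Γ)) := by
  obtain ⟨a', ha', haa'⟩ := exists_not_mem_zpowers hA ha
  have hsup := hA.sup_zpowers_eq ha ha1 ha' haa'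
  have hAC : A ≤ Subgroup.normalizer
      ((G ⊓ Subgroup.centralizer ({a} : Set Γ) : Subgroup Γ) : Set Γ) :=
    normalizer_inf hAG (normalizer_centralizer_singleton (fun g hg => hA.comm g hg a ha))
  obtain ⟨φ, hφ⟩ : ∃ φ : MulAut ↥(G ⊓ Subgroup.centralizer ({a} : Set Γ)),
      φ = (G ⊓ Subgroup.centralizer ({a} : Set Γ)).normalizerMonoidHom ⟨a', hAC ha'⟩ := ⟨_, rfl⟩
  have happ : ∀ x : ↥(G ⊓ Subgroup.centralizer ({a} : Set Γ)),
      ((φ x : ↥(G ⊓ Subgroup.centralizer ({a} : Set Γ))) : Γ) = a' * (x : Γ) * a'⁻¹ := by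
    intro x; rw [hφ]; rfl
  have hfree : MonoidHom.FixedPointFree ((φ : ↥(G ⊓ Subgroup.centralizer ({a} : Set Γ)) ≃* _) :
      ↥(G ⊓ Subgroup.centralizer ({a} : Set Γ)) →* _) := by
    intro x hx
    have h1 : a' * (x : Γ) * a'⁻¹ = (x : Γ) := by
      rw [← happ]; exact congrArg Subtype.val hx
    have h2 : a' * (x : Γ) = (x : Γ) * a' := by
      calc a' * (x : Γ) = a' * (x : Γ) * a'⁻¹ * a' := by group
        _ = (x : Γ) * a' := by rw [h1]
    have h3 : a * (x : Γ) = (x : Γ) * a :=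
      (Subgroup.mem_centralizer_singleton_iff.mp x.2.2).symm
    have h4 : ∀ g ∈ A, g * (x : Γ) = (x : Γ) * g := by
      intro g hg
      have h5 : Subgroup.zpowers a ⊔ Subgroup.zpowers a' ≤
          Subgroup.centralizer ({(x : Γ)} : Set Γ) := by
        apply sup_le
        · rw [Subgroup.zpowers_le, Subgroup.mem_centralizer_singleton_iff]; exact h3
        · rw [Subgroup.zpowers_le, Subgroup.mem_centralizer_singleton_iff]; exact h2
      rw [hsup] at h5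
      exact Subgroup.mem_centralizer_singleton_iff.mp (h5 hg)
    exact Subtype.ext (hfpf x.1 x.2.1 h4)
  have hpow : φ ^ p = 1 := by
    rw [hφ, ← map_pow]
    have : (⟨a', hAC ha'⟩ : ↥(Subgroup.normalizer
        ((G ⊓ Subgroup.centralizer ({a} : Set Γ) : Subgroup Γ) : Set Γ))) ^ p = 1 := by
      apply Subtype.ext
      simp [hA.exp a' ha']
    rw [this, map_one]
  exact Cfsg.Agent.Lib.Helper1.FPF.fpf_nilpotent φ hfree hA.hp hpow

end Cfsg.Agent.Lib.Helper1.Ward
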