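import Mathlib
import Cfsg.Agent.Lib.Helper11.NilpCoprime

set_option autoImplicit false

open scoped commutatorElement

namespace Cfsg.Agent.Lib.Helper1.Ward

open Cfsg.Agent.Lib.Helper11

theorem nilpotent_of_central_pow {C : Type*} [Group C] [Finite C] {s : ℕ} (hs : s.Prime)
    (Z₁ : Subgroup C) (hZ : Z₁ ≤ Subgroup.center C) (hpow : ∀ x : C, ∃ k, x ^ (s ^ k) ∈ Z₁) :
    Group.IsNilpotent C := by
  have := Fact.mk hs
  have hn : Z₁.Normal := by
    constructor
    intro z hz g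
    have h1 := Subgroup.mem_center_iff.mp (hZ hz) g
    have e : g * z * g⁻¹ = z := by rw [h1]; group
    rw [e]; exact hz
  have hp : IsPGroup s (C ⧸ Z₁) := by
    intro x
    obtain ⟨y, rfl⟩ := QuotientGroup.mk_surjective x
    obtain ⟨k, hk⟩ := hpow y
    refine ⟨k, ?_⟩
    rw [← QuotientGroup.mk_pow]
    exact (QuotientGroup.eq_one_iff _).mpr hk
  have hnil : Group.IsNilpotent (C ⧸ Z₁) := hp.isNilpotent
  exact Subgroup.isNilpotent_of_ker_le_center (QuotientGroup.mk' Z₁)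
    (by rw [QuotientGroup.ker_mk']; exact hZ)

theorem commute_of_pow_coprime {X : Type*} [Group X] {n c : X} {a b : ℕ} (hab : Nat.Coprime a b)
    (ha : Commute (n ^ a) c) (hb : Commute (n ^ b) c) : Commute n c := by
  obtain ⟨α, β, hαβ⟩ := (Nat.isCoprime_iff_coprime.mpr hab)
  have h1 : n = (n ^ a) ^ α * (n ^ b) ^ β := by
    rw [← zpow_natCast n a, ← zpow_natCast n b, ← zpow_mul, ← zpow_mul, ← zpow_add]
    have : (a : ℤ) * α + (b : ℤ) * β = 1 := by linarith
    rw [this, zpow_one]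
  rw [h1]
  exact (ha.zpow_left α).mul_left (hb.zpow_left β)

theorem mem_of_prime_parts {Γ : Type*} [Group Γ] (K : Subgroup Γ) :
    ∀ (n : ℕ) (g : Γ), orderOf g = n → 0 < n →
      (∀ h ∈ Subgroup.zpowers g, ∀ p : ℕ, p.Prime → p ∣ orderOf g → (∃ k : ℕ, h ^ p ^ k = 1) → h ∈ K) →
      g ∈ K := by
  intro n
  induction n using Nat.strong_induction_on with
  | _ n ih =>
    intro g hgn hpos hK
    by_cases h1 : n = 1
    · rw [h1, orderOf_eq_one_iff] at hgn
      rw [hgn]; exact K.one_mem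
    · obtain ⟨p, hp, hpn⟩ := Nat.exists_prime_and_dvd h1
      obtain ⟨u, v, hu, hv, huv, huk, hvc⟩ := exists_p_parts p hp g (hgn ▸ hpos)
      have hvd : orderOf v ∣ orderOf g := orderOf_dvd_of_mem_zpowers hv
      have hvlt : orderOf v < n := by
        rw [← hgn]
        apply lt_of_le_of_ne (Nat.le_of_dvd (hgn ▸ hpos) hvd)
        intro he
        rw [he, hgn] at hvc
        exact hp.one_lt.ne' (Nat.Coprime.eq_one_of_dvd hvc.symm hpn)
      have hvpos : 0 < orderOf v := Nat.pos_of_dvd_of_pos hvd (hgn ▸ hpos)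
      have hvK : v ∈ K := by
        apply ih (orderOf v) hvlt v rfl hvpos
        intro h hh r hr hrv hk
        apply hK h _ r hr (hrv.trans hvd) hk
        exact (Subgroup.zpowers_le.mpr hv) hh
      have huK : u ∈ K := hK u hu p hp (hgn ▸ hpn) huk
      rw [huv]
      exact K.mul_mem huK hvK

theorem conj_pow_eq {X : Type*} [Group X] (g m : X) (n : ℕ) :
    (g * m * g⁻¹) ^ n = g * m ^ n * g⁻¹ := by
  induction n with
  | zero => simp
  | succ n ih => rw [pow_succ, pow_succ, ih]; group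

theorem step_one {X : Type*} [Group X] [Finite X] (M : Subgroup X) [hMn : M.Normal]
    (hnil : Group.IsNilpotent M) {r s : ℕ} (hr : r.Prime) (hs : s.Prime) (hsr : s ≠ r)
    (L : Subgroup X) (hML : M ⊔ L = ⊤)
    (hLc : ∀ l ∈ L, ∀ m ∈ M, (∃ k, m ^ (s ^ k) = 1) → l * m = m * l)
    (g : X) (hg : ∃ j, g ^ (r ^ j) = 1) (m : X) (hm : m ∈ M) (hms : ∃ k, m ^ (s ^ k) = 1) :
    g * m = m * g := by
  have hgtop : g ∈ ((M ⊔ L : Subgroup X) : Set X) := by rw [hML]; trivial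
  rw [Subgroup.normal_mul] at hgtop
  obtain ⟨m₀, hm₀, l, hl, hgdef⟩ := hgtop
  have hgdef' : g = m₀ * l := hgdef.symm
  obtain ⟨u, v, hu, hv, huv, ⟨i, hui⟩, hvc⟩ := exists_p_parts s hs m₀ (orderOf_pos m₀)
  have hzM : Subgroup.zpowers m₀ ≤ M := Subgroup.zpowers_le.mpr hm₀
  have huM : u ∈ M := hzM hu
  have hvM : v ∈ M := hzM hv
  have key : ∀ m' ∈ M, (∃ k, m' ^ (s ^ k) = 1) → g * m' * g⁻¹ = u * m' * u⁻¹ := by
    intro m' hm' hm's
    have h1 : l * m' = m' * l := hLc l hl m' hm' hm's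
    have h2 : Commute (⟨v, hvM⟩ : ↥M) ⟨m', hm'⟩ := by
      apply commute_of_coprime_orderOf
      rw [Subgroup.orderOf_mk, Subgroup.orderOf_mk]
      obtain ⟨k, hk⟩ := hm's
      have h3 : orderOf m' ∣ s ^ k := orderOf_dvd_of_pow_eq_one hk
      exact Nat.Coprime.coprime_dvd_right h3 (Nat.Coprime.pow_right k hvc)
    have h3 : v * m' = m' * v := congrArg Subtype.val h2.eq
    rw [hgdef']
    have e1 : (m₀ * l) * m' * (m₀ * l)⁻¹ = m₀ * (l * m') * l⁻¹ * m₀⁻¹ := by group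
    rw [e1, h1, huv]
    have e2 : u * v * (m' * l) * l⁻¹ * (u * v)⁻¹ = u * (v * m') * v⁻¹ * u⁻¹ := by group
    rw [e2, h3]; group
  have iter : ∀ n : ℕ, ∀ m' ∈ M, (∃ k, m' ^ (s ^ k) = 1) →
      g ^ n * m' * (g ^ n)⁻¹ = u ^ n * m' * (u ^ n)⁻¹ := by
    intro n
    induction n with
    | zero => intro m' _ _; simp
    | succ n ih =>
      intro m' hm' hm's
      have h1 : u ^ n * m' * (u ^ n)⁻¹ ∈ M :=
        M.mul_mem (M.mul_mem (M.pow_mem huM n) hm') (M.inv_mem (M.pow_mem huM n))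
      have h2 : ∃ k, (u ^ n * m' * (u ^ n)⁻¹) ^ (s ^ k) = 1 := by
        obtain ⟨k, hk⟩ := hm's
        refine ⟨k, ?_⟩
        rw [conj_pow_eq, hk]; group
      have e1 : g ^ (n + 1) * m' * (g ^ (n + 1))⁻¹ =
          g * (g ^ n * m' * (g ^ n)⁻¹) * g⁻¹ := by
        rw [pow_succ']; group
      rw [e1, ih m' hm' hm's, key _ h1 h2, pow_succ']
      group
  have h1 := iter (s ^ i) m hm hms
  rw [hui] at h1
  have h2 : Commute (g ^ (s ^ i)) m := by
    show g ^ (s ^ i) * m = m * g ^ (s ^ i)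
    have e : g ^ (s ^ i) * m = (g ^ (s ^ i) * m * (g ^ (s ^ i))⁻¹) * g ^ (s ^ i) := by group
    rw [e, h1]; group
  obtain ⟨j, hj⟩ := hg
  have h3 : Commute (g ^ (r ^ j)) m := by
    rw [hj]; exact Commute.one_left m
  have hcop : Nat.Coprime (s ^ i) (r ^ j) :=
    Nat.Coprime.pow i j ((Nat.coprime_primes hs hr).mpr hsr)
  exact (commute_of_pow_coprime hcop h2 h3).eq

theorem relem_mem_sylow {X : Type*} [Group X] [Finite X] (M : Subgroup X) [hMn : M.Normal]
    (hnil : Group.IsNilpotent M) {r : ℕ} [Fact r.Prime] (P : Sylow r X)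
    (u : X) (hu : u ∈ M) (hur : ∃ k, u ^ (r ^ k) = 1) : u ∈ P := by
  obtain ⟨PM⟩ : Nonempty (Sylow r ↥M) := inferInstance
  have hPMn : (PM : Subgroup ↥M).Normal := inferInstance
  have hchar : (PM : Subgroup ↥M).Characteristic := Sylow.characteristic_of_normal PM hPMn
  have hN₀n : ((PM : Subgroup ↥M).map M.subtype).Normal :=
    ConjAct.normal_of_characteristic_of_normal
  have hN₀P : (PM : Subgroup ↥M).map M.subtype ≤ P :=
    IsPGroup.le_sylow_of_normal (PM.isPGroup'.map _) P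
  apply hN₀P
  have hz : IsPGroup r (Subgroup.zpowers (⟨u, hu⟩ : ↥M)) := by
    obtain ⟨k, hk⟩ := hur
    rintro ⟨_, i, rfl⟩
    refine ⟨k, ?_⟩
    apply Subtype.ext
    apply Subtype.ext
    simp only [Subgroup.coe_pow, Subgroup.coe_zpow, Subgroup.coe_one]
    rw [← zpow_natCast, ← zpow_mul, mul_comm, zpow_mul, zpow_natCast, hk, one_zpow]
  obtain ⟨Q', hQ'⟩ := hz.exists_le_sylow
  obtain ⟨g, rfl⟩ := MulAction.exists_smul_eq ↥M PM Q'
  rw [Sylow.smul_eq_of_normal] at hQ'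
  exact ⟨⟨u, hu⟩, hQ' (Subgroup.mem_zpowers _), rfl⟩

theorem sup_sylow_eq_top {X : Type*} [Group X] [Finite X] (M : Subgroup X) [hMn : M.Normal]
    {r : ℕ} [hr : Fact r.Prime] (hpow : ∀ g : X, ∃ k, g ^ (r ^ k) ∈ M) (P : Sylow r X) :
    M ⊔ (P : Subgroup X) = ⊤ := by
  have hp : IsPGroup r (X ⧸ M) := by
    intro x
    obtain ⟨y, rfl⟩ := QuotientGroup.mk_surjective x
    obtain ⟨k, hk⟩ := hpow y
    refine ⟨k, ?_⟩
    rw [← QuotientGroup.mk_pow]
    exact (QuotientGroup.eq_one_iff _).mpr hk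
  obtain ⟨n, hn⟩ := (IsPGroup.iff_card).mp hp
  have hMidx : M.index = r ^ n := by rw [Subgroup.index_eq_card]; exact hn
  have h1 : (M ⊔ (P : Subgroup X)).index ∣ r ^ n := hMidx ▸ Subgroup.index_dvd_of_le le_sup_left
  have h2 : (M ⊔ (P : Subgroup X)).index ∣ (P : Subgroup X).index :=
    Subgroup.index_dvd_of_le le_sup_right
  obtain ⟨j, -, hj⟩ := (Nat.dvd_prime_pow hr.out).mp h1
  rw [← Subgroup.index_eq_one, hj]
  rcases Nat.eq_zero_or_pos j with rfl | hjpos
  · simp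
  · exfalso
    apply P.not_dvd_index
    apply dvd_trans _ h2
    rw [hj]
    exact dvd_pow_self r hjpos.ne'

theorem nilpotent_of_rgroup_ext {X : Type*} [Group X] [Finite X] (M : Subgroup X) [hMn : M.Normal]
    (hnil : Group.IsNilpotent M) {r : ℕ} (hr : r.Prime)
    (hpow : ∀ g : X, ∃ k, g ^ (r ^ k) ∈ M)
    (hL : ∀ s : ℕ, s.Prime → s ≠ r → ∃ L : Subgroup X, M ⊔ L = ⊤ ∧
      ∀ l ∈ L, ∀ m ∈ M, (∃ k, m ^ (s ^ k) = 1) → l * m = m * l) :
    Group.IsNilpotent X := by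
  have := Fact.mk hr
  obtain ⟨P⟩ : Nonempty (Sylow r X) := inferInstance
  have step1 : ∀ g ∈ P, ∀ s : ℕ, s.Prime → s ≠ r → ∀ m ∈ M, (∃ k, m ^ (s ^ k) = 1) →
      g * m = m * g := by
    intro g hg s hs hsr m hm hms
    obtain ⟨L, hML, hLc⟩ := hL s hs hsr
    have hgr : ∃ j, g ^ (r ^ j) = 1 := by
      obtain ⟨j, hj⟩ := P.isPGroup' ⟨g, hg⟩
      exact ⟨j, congrArg Subtype.val hj⟩
    exact step_one M hnil hr hs hsr L hML hLc g hgr m hm hms
  obtain ⟨H, hH⟩ : ∃ H : Subgroup X, H = Subgroup.closure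
      {m | m ∈ M ∧ ∃ s : ℕ, s.Prime ∧ s ≠ r ∧ ∃ k, m ^ (s ^ k) = 1} := ⟨_, rfl⟩
  have hHM : H ≤ M := by
    rw [hH, Subgroup.closure_le]
    intro m hm
    exact hm.1
  have hHP : H ≤ Subgroup.centralizer ((P : Subgroup X) : Set X) := by
    rw [hH, Subgroup.closure_le]
    rintro m ⟨hm, s, hs, hsr, hms⟩
    rw [SetLike.mem_coe, Subgroup.mem_centralizer_iff]
    intro g hg
    exact step1 g hg s hs hsr m hm hms
  have hMle : M ≤ H ⊔ (P : Subgroup X) := by
    intro m hm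
    apply mem_of_prime_parts (H ⊔ (P : Subgroup X)) (orderOf m) m rfl (orderOf_pos m)
    intro h hh q hq _ hhq
    have hhM : h ∈ M := (Subgroup.zpowers_le.mpr hm) hh
    by_cases hqr : q = r
    · subst hqr
      exact Subgroup.mem_sup_right (relem_mem_sylow M hnil P h hhM hhq)
    · apply Subgroup.mem_sup_left
      rw [hH]
      exact Subgroup.subset_closure ⟨hhM, q, hq, hqr, hhq⟩
  have htop : H ⊔ (P : Subgroup X) = ⊤ := by
    rw [eq_top_iff, ← sup_sylow_eq_top M hpow P]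
    exact sup_le hMle le_sup_right
  have hcomm : ∀ (h : ↥H) (g : ↥(P : Subgroup X)), Commute (H.subtype h) ((P : Subgroup X).subtype g) := by
    intro h g
    have := Subgroup.mem_centralizer_iff.mp (hHP h.2) g.1 g.2
    exact this.symm
  have hsurj : Function.Surjective (MonoidHom.noncommCoprod H.subtype (P : Subgroup X).subtype hcomm) := by
    rw [← MonoidHom.range_eq_top, MonoidHom.noncommCoprod_range, Subgroup.range_subtype,
      Subgroup.range_subtype]
    exact htop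
  have hnilH : Group.IsNilpotent ↥H := by
    have h1 : Group.IsNilpotent ↥(H.subgroupOf M) := inferInstance
    exact (Group.isNilpotent_congr (Subgroup.subgroupOfEquivOfLe hHM)).mp h1
  have hnilP : Group.IsNilpotent ↥(P : Subgroup X) := P.isPGroup'.isNilpotent
  exact Group.nilpotent_of_surjective _ hsurj

theorem nilpotent_of_rgroup_ext_sub {Y : Type*} [Group Y] [Finite Y] (X M : Subgroup Y)
    (hMX : M ≤ X) (hn : X ≤ Subgroup.normalizer (M : Set Y)) (hnil : Group.IsNilpotent M)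
    {r : ℕ} (hr : r.Prime) (hpow : ∀ g ∈ X, ∃ k, g ^ (r ^ k) ∈ M)
    (hL : ∀ s : ℕ, s.Prime → s ≠ r → ∃ L : Subgroup Y, L ≤ X ∧ X ≤ M ⊔ L ∧
      ∀ l ∈ L, ∀ m ∈ M, (∃ k, m ^ (s ^ k) = 1) → l * m = m * l) :
    Group.IsNilpotent X := by
  have hMn : (M.subgroupOf X).Normal := (Subgroup.normal_subgroupOf_iff_le_normalizer hMX).mpr hn
  have hnil' : Group.IsNilpotent ↥(M.subgroupOf X) :=
    (Group.isNilpotent_congr (Subgroup.subgroupOfEquivOfLe hMX)).mpr hnil
  apply nilpotent_of_rgroup_ext (M.subgroupOf X) hnil' hr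
  · intro g
    obtain ⟨k, hk⟩ := hpow g.1 g.2
    refine ⟨k, ?_⟩
    rw [Subgroup.mem_subgroupOf]
    simpa using hk
  · intro s hs hsr
    obtain ⟨L, hLX, hXML, hLc⟩ := hL s hs hsr
    refine ⟨L.subgroupOf X, ?_, ?_⟩
    · rw [eq_top_iff]
      intro x _
      have hx : (x : Y) ∈ M ⊔ L := hXML x.2
      have hMnL : L ≤ Subgroup.normalizer (M : Set Y) := hLX.trans hn
      have hx' : (x : Y) ∈ ((M ⊔ L : Subgroup Y) : Set Y) := hx
      rw [Subgroup.coe_mul_of_right_le_normalizer_left M L hMnL] at hx'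
      obtain ⟨m, hm, l, hl, hml⟩ := hx'
      have e : x = (⟨m, hMX hm⟩ : ↥X) * ⟨l, hLX hl⟩ := Subtype.ext hml.symm
      rw [e]
      exact Subgroup.mul_mem_sup (Subgroup.mem_subgroupOf.mpr hm) (Subgroup.mem_subgroupOf.mpr hl)
    · intro l hl m hm hms
      apply Subtype.ext
      obtain ⟨k, hk⟩ := hms
      have hk' : (m : Y) ^ (s ^ k) = 1 := by
        have := congrArg Subtype.val hk
        simpa using this
      exact hLc l.1 (Subgroup.mem_subgroupOf.mp hl) m.1 (Subgroup.mem_subgroupOf.mp hm) ⟨k, hk'⟩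

theorem exists_normal_prime_idx {H : Type*} [Group H] [Finite H] [Group.IsSolvable H]
    [Nontrivial H] : ∃ M : Subgroup H, M.Normal ∧ M.index.Prime := by
  have hlt : commutator H < ⊤ := Group.IsSolvable.commutator_lt_top_of_nontrivial H
  obtain ⟨M, hM, hle⟩ := (IsCoatomic.eq_top_or_exists_le_coatom (commutator H)).resolve_left hlt.ne
  have hMn : M.Normal := by
    constructor
    intro n hn g
    have h1 : ⁅g, n⁆ ∈ commutator H :=
      Subgroup.commutator_mem_commutator (Subgroup.mem_top g) (Subgroup.mem_top n)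
    have e : g * n * g⁻¹ = ⁅g, n⁆ * n := by
      rw [commutatorElement_def]; group
    rw [e]
    exact M.mul_mem (hle h1) hn
  refine ⟨M, hMn, ?_⟩
  have hq1 : M.index ≠ 1 := fun h => hM.1 (Subgroup.index_eq_one.mp h)
  obtain ⟨ℓ, hℓ, hdvd⟩ := Nat.exists_prime_and_dvd hq1
  have : Fact ℓ.Prime := ⟨hℓ⟩
  have hdvd' : ℓ ∣ Nat.card (H ⧸ M) := hdvd
  obtain ⟨x, hx⟩ := exists_prime_orderOf_dvd_card' ℓ hdvd'
  obtain ⟨y, rfl⟩ := QuotientGroup.mk_surjective x
  obtain ⟨L, hLdef⟩ : ∃ L : Subgroup H,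
      L = (Subgroup.zpowers (QuotientGroup.mk' M y)).comap (QuotientGroup.mk' M) := ⟨_, rfl⟩
  have hML : M ≤ L := by
    intro z hz
    rw [hLdef, Subgroup.mem_comap]
    have : QuotientGroup.mk' M z = 1 := (QuotientGroup.eq_one_iff z).mpr hz
    rw [this]
    exact Subgroup.one_mem _
  have hyL : y ∈ L := by
    rw [hLdef, Subgroup.mem_comap]
    exact Subgroup.mem_zpowers _
  have hyM : y ∉ M := by
    intro h
    have h1 : (QuotientGroup.mk y : H ⧸ M) = 1 := (QuotientGroup.eq_one_iff y).mpr h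
    rw [h1, orderOf_one] at hx
    exact hℓ.one_lt.ne hx
  have hLtop : L = ⊤ := by
    by_contra hne
    have := hM.2 L (lt_of_le_of_ne hML (fun h => hyM (h ▸ hyL)))
    exact hne this
  have hz : Subgroup.zpowers (QuotientGroup.mk' M y) = ⊤ := by
    rw [eq_top_iff]
    intro z _
    obtain ⟨w, rfl⟩ := QuotientGroup.mk_surjective z
    have : w ∈ L := by rw [hLtop]; exact Subgroup.mem_top w
    rw [hLdef] at this
    exact this
  have hcard : Nat.card (H ⧸ M) = ℓ := by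
    rw [← Subgroup.card_top (G := H ⧸ M), ← hz, Nat.card_zpowers]
    exact hx
  have : M.index = ℓ := hcard
  rw [this]
  exact hℓ

end Cfsg.Agent.Lib.Helper1.Ward
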