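import Mathlib
import Cfsg.Agent.Lib.Helper1.Ward.Nilp

set_option autoImplicit false

namespace Cfsg.Agent.Lib.Helper1.Ward

open Cfsg.Agent.Lib.Helper11

variable {Γ : Type*} [Group Γ]

theorem closure_normal_of_conj_inv (S : Set Γ) (hS : ∀ s ∈ S, ∀ g : Γ, g * s * g⁻¹ ∈ S) :
    (Subgroup.closure S).Normal := by
  constructor
  intro n hn g
  induction hn using Subgroup.closure_induction with
  | mem x hx => exact Subgroup.subset_closure (hS x hx g)
  | one => simp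
  | mul x y _ _ hx hy =>
    have e : g * (x * y) * g⁻¹ = (g * x * g⁻¹) * (g * y * g⁻¹) := by group
    rw [e]
    exact mul_mem hx hy
  | inv x _ hx =>
    have e : g * x⁻¹ * g⁻¹ = (g * x * g⁻¹)⁻¹ := by group
    rw [e]
    exact inv_mem hx

def Or (G : Subgroup Γ) (r : ℕ) : Subgroup Γ :=
  Subgroup.closure {g | g ∈ G ∧ (orderOf g).Coprime r}

theorem Or_le (G : Subgroup Γ) (r : ℕ) : Or G r ≤ G := by
  rw [Or, Subgroup.closure_le]
  intro g hg
  exact hg.1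

theorem orderOf_conj' (g x : Γ) : orderOf (g * x * g⁻¹) = orderOf x := by
  have := MulEquiv.orderOf_eq (MulAut.conj g) x
  rwa [MulAut.conj_apply] at this

theorem Or_normal {G : Subgroup Γ} (hG : G.Normal) (r : ℕ) : (Or G r).Normal := by
  apply closure_normal_of_conj_inv
  rintro x ⟨hx, hxr⟩ g
  exact ⟨hG.conj_mem x hx g, by rw [orderOf_conj']; exact hxr⟩

theorem mem_Or_of_coprime {G : Subgroup Γ} {r : ℕ} {g : Γ} (hg : g ∈ G)
    (h : (orderOf g).Coprime r) : g ∈ Or G r :=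
  Subgroup.subset_closure ⟨hg, h⟩

theorem pow_mem_Or [Finite Γ] {G : Subgroup Γ} {r : ℕ} (hr : r.Prime) {g : Γ} (hg : g ∈ G) :
    ∃ k, g ^ (r ^ k) ∈ Or G r := by
  obtain ⟨u, v, hu, hv, huv, ⟨k, huk⟩, hvc⟩ := exists_p_parts r hr g (orderOf_pos g)
  refine ⟨k, ?_⟩
  have hzG : Subgroup.zpowers g ≤ G := Subgroup.zpowers_le.mpr hg
  have hcomm : Commute u v := by
    obtain ⟨i, rfl⟩ := hu
    obtain ⟨j, rfl⟩ := hv
    exact (Commute.refl g).zpow_zpow i j
  have e : g ^ (r ^ k) = v ^ (r ^ k) := by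
    conv_lhs => rw [huv]
    rw [hcomm.mul_pow, huk, one_mul]
  rw [e]
  exact pow_mem (mem_Or_of_coprime (hzG hv) hvc) _

theorem Or_ne [Finite Γ] {G : Subgroup Γ} {r : ℕ} (hr : r.Prime) (N : Subgroup ↥G) [hN : N.Normal]
    (hidx : N.index = r) : Or G r ≠ G := by
  intro heq
  have hle : Or G r ≤ N.map G.subtype := by
    rw [Or, Subgroup.closure_le]
    rintro g ⟨hg, hgr⟩
    refine ⟨⟨g, hg⟩, ?_, rfl⟩
    rw [SetLike.mem_coe, ← QuotientGroup.eq_one_iff, ← orderOf_eq_one_iff]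
    have h1 : orderOf ((⟨g, hg⟩ : ↥G) : ↥G ⧸ N) ∣ orderOf (⟨g, hg⟩ : ↥G) :=
      orderOf_map_dvd (QuotientGroup.mk' N) _
    rw [Subgroup.orderOf_mk] at h1
    have h2 : orderOf ((⟨g, hg⟩ : ↥G) : ↥G ⧸ N) ∣ r := by
      have := orderOf_dvd_natCard ((⟨g, hg⟩ : ↥G) : ↥G ⧸ N)
      rwa [← Subgroup.index_eq_card, hidx] at this
    have h3 := Nat.dvd_gcd h1 h2
    rw [hgr] at h3
    exact Nat.dvd_one.mp h3
  rw [heq] at hle
  have htop : N = ⊤ := by
    rw [eq_top_iff]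
    intro x _
    obtain ⟨y, hy, hxy⟩ := hle x.2
    have : y = x := Subtype.ext hxy
    rwa [← this]
  rw [htop, Subgroup.index_top] at hidx
  exact hr.one_lt.ne hidx

end Cfsg.Agent.Lib.Helper1.Ward
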