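import Mathlib
import Cfsg.Agent.Lib.Helper1.Ward.CaseTwo

set_option autoImplicit false
set_option linter.unusedSectionVars false

open scoped commutatorElement

namespace Cfsg.Agent.Lib.Helper1.Ward

variable {G : Type*} [Group G] [Finite G]

theorem card_lt_of_lt' {H K : Subgroup G} (h : H < K) : Nat.card H < Nat.card K :=
  lt_of_le_of_ne (Subgroup.card_le_of_le h.le)
    (fun heq => h.ne (Subgroup.eq_of_le_of_card_ge h.le heq.ge))

theorem tower_main {p s : ℕ} {A V : Subgroup G} : ∀ n : ℕ, ∀ S R : Subgroup G,
    Nat.card S + Nat.card R = n → Tower p s A V S R →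
    ⁅S, R⁆ ≤ Subgroup.centralizer (V : Set G) := by
  intro n
  induction n using Nat.strong_induction_on with
  | _ n ih =>
    intro S R hn T
    have sub : ∀ S' : Subgroup G, S' ≤ S → A ≤ Subgroup.normalizer (S' : Set G) →
        R ≤ Subgroup.normalizer (S' : Set G) → S' ≠ S →
        ⁅S', R⁆ ≤ Subgroup.centralizer (V : Set G) := by
      intro S' hS' hA hR hne
      have hlt : Nat.card S' < Nat.card S := card_lt_of_lt' (lt_of_le_of_ne hS' hne)
      exact ih (Nat.card S' + Nat.card R) (by omega) S' R rfl (T.subS hS' hA hR)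
    by_cases hb : ∃ b₀ ∈ A, b₀ ≠ 1 ∧ ∀ x ∈ R, b₀ * x = x * b₀
    swap
    · have hR : R ≤ stabMod S (S ⊓ Subgroup.centralizer (V : Set G)) := by
        apply T.sup58 T.AR (T.copAR (le_refl A) (le_refl R))
        intro a ha ha1
        have hne : R ⊓ Subgroup.centralizer ({a} : Set G) ≠ R := by
          intro e
          apply hb
          refine ⟨a, ha, ha1, fun x hx => ?_⟩
          have hx' : x ∈ R ⊓ Subgroup.centralizer ({a} : Set G) := by rw [e]; exact hx
          exact (Subgroup.mem_centralizer_singleton_iff.mp hx'.2).symm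
        have hlt : Nat.card (R ⊓ Subgroup.centralizer ({a} : Set G) : Subgroup G) < Nat.card R :=
          card_lt_of_lt' (lt_of_le_of_ne inf_le_left hne)
        have T' := T.subR (R' := R ⊓ Subgroup.centralizer ({a} : Set G)) inf_le_left
          (normalizer_inf T.AR (T.A_norm_cent ha))
        have h1 := ih _ (by omega) S (R ⊓ Subgroup.centralizer ({a} : Set G)) rfl T'
        exact le_stabMod_of_commutator_le (inf_le_left.trans T.RS)
          (le_inf (Subgroup.le_normalizer_iff_commutator_le_left.mp (inf_le_left.trans T.RS)) h1)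
      exact (commutator_le_of_le_stabMod hR).trans inf_le_right
    obtain ⟨b₀, hb₀A, hb₀1, hb₀R⟩ := hb
    by_cases hSR : ⁅S, R⁆ = S
    swap
    · have h1 := sub ⁅S, R⁆ (Subgroup.le_normalizer_iff_commutator_le_left.mp T.RS)
        (normalizer_commutator T.AS T.AR) (normalizer_commutator T.RS Subgroup.le_normalizer) hSR
      have h27 := Cfsg.Agent.S0027.result R S T.RS (T.copRS (le_refl R) (le_refl S))
        (Or.inl T.Rsolv)
      rw [h27] at h1
      exact h1
    have hred : Red p s A V S R b₀ := ⟨T, hb₀A, hb₀1, hb₀R, hSR, sub⟩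
    by_cases hZ : ZZ V S = S
    · have hSS : ⁅S, S⁆ ≤ Subgroup.centralizer (V : Set G) := by
        have h1 : S ≤ stabMod S (KK V S) := by
          conv_lhs => rw [← hZ]
          exact inf_le_right
        exact (commutator_le_of_le_stabMod h1).trans inf_le_right
      exact (Subgroup.le_normalizer_iff_commutator_le_left.mp T.RS).trans (hred.caseOne hSS)
    · exact (hred.caseTwo hZ).elim

theorem Tower.main {p s : ℕ} {A V S R : Subgroup G} (T : Tower p s A V S R) :
    ⁅S, R⁆ ≤ Subgroup.centralizer (V : Set G) :=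
  tower_main _ S R rfl T

end Cfsg.Agent.Lib.Helper1.Ward
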