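import Mathlib
import Cfsg.Agent.S0022
import Cfsg.Agent.Lib.Helper1.Ward.MainLemma

set_option autoImplicit false
set_option linter.unusedSectionVars false

open scoped commutatorElement

namespace Cfsg.Agent.Lib.Helper1.Ward

variable {G : Type*} [Group G] [Finite G]

theorem mk_eq_one_iff' (V₀ : Subgroup G) [V₀.Normal] (g : G) :
    QuotientGroup.mk' V₀ g = 1 ↔ g ∈ V₀ := by
  rw [← MonoidHom.mem_ker, QuotientGroup.ker_mk']

theorem lift_fixed (V₀ : Subgroup G) [V₀.Normal] {B K : Subgroup G}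
    (hBK : B ≤ Subgroup.normalizer (K : Set G)) (hcop : (Nat.card B).Coprime (Nat.card K))
    (hsolv : Group.IsSolvable B ∨ Group.IsSolvable K) {k : G} (hk : k ∈ K)
    (hcomm : ∀ b ∈ B, QuotientGroup.mk' V₀ b * QuotientGroup.mk' V₀ k =
      QuotientGroup.mk' V₀ k * QuotientGroup.mk' V₀ b) :
    ∃ c ∈ K, (∀ b ∈ B, b * c = c * b) ∧ QuotientGroup.mk' V₀ c = QuotientGroup.mk' V₀ k := by
  have hV₀n : ∀ E : Subgroup G, E ≤ Subgroup.normalizer (V₀ : Set G) := by
    intro E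
    rw [Subgroup.normalizer_eq_top]
    exact le_top
  have h22 := Cfsg.Agent.S0022.result B K hBK hcop hsolv (K ⊓ V₀) inf_le_left
    (normalizer_inf Subgroup.le_normalizer (hV₀n K)) (normalizer_inf hBK (hV₀n B)) k hk
    (by
      intro a ha
      refine Subgroup.mem_inf.mpr ⟨mul_mem (nmem (hBK ha) hk) (inv_mem hk), ?_⟩
      rw [← mk_eq_one_iff', map_mul, map_mul, map_mul, map_inv, map_inv, hcomm a ha]
      group)
  obtain ⟨c, hc, hkc⟩ := h22
  refine ⟨c, hc.1, fun b hb => Subgroup.mem_centralizer_iff.mp hc.2 b hb, ?_⟩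
  have h1 := (mk_eq_one_iff' V₀ _).mpr hkc.2
  rw [map_mul, map_inv, inv_mul_eq_one] at h1
  exact h1.symm

theorem card_map_of_inj_on {H : Type*} [Group H] (f : G →* H) (A : Subgroup G)
    (h : ∀ a ∈ A, f a = 1 → a = 1) : Nat.card (A.map f) = Nat.card A := by
  have hsurj : Function.Surjective (f.subgroupMap A) := f.subgroupMap_surjective A
  have hinj : Function.Injective (f.subgroupMap A) := by
    rw [injective_iff_map_eq_one]
    intro a ha
    have h1 : f (a : G) = 1 := congrArg Subtype.val ha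
    exact Subtype.ext (h a.1 a.2 h1)
  exact (Nat.card_congr (Equiv.ofBijective _ ⟨hinj, hsurj⟩)).symm

theorem eq_one_of_mem_of_coprime {A B : Subgroup G} (hcop : (Nat.card A).Coprime (Nat.card B))
    {a : G} (ha : a ∈ A) (hb : a ∈ B) : a = 1 := by
  have h1 : orderOf a ∣ Nat.card A := by
    have := orderOf_dvd_natCard (⟨a, ha⟩ : ↥A)
    rwa [Subgroup.orderOf_mk] at this
  have h2 : orderOf a ∣ Nat.card B := by
    have := orderOf_dvd_natCard (⟨a, hb⟩ : ↥B)
    rwa [Subgroup.orderOf_mk] at this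
  have h3 : orderOf a ∣ Nat.gcd (Nat.card A) (Nat.card B) := Nat.dvd_gcd h1 h2
  rw [hcop] at h3
  exact orderOf_eq_one_iff.mp (Nat.dvd_one.mp h3)

theorem map_norm {H : Type*} [Group H] (f : G →* H) {E K : Subgroup G}
    (h : E ≤ Subgroup.normalizer (K : Set G)) :
    E.map f ≤ Subgroup.normalizer ((K.map f : Subgroup H) : Set H) :=
  (Subgroup.map_mono h).trans (Subgroup.le_normalizer_map f)

namespace PreTower

variable {p s : ℕ} {A V S R : Subgroup G}

theorem pcopAV (P : PreTower p s A V S R) {A' V' : Subgroup G} (hA : A' ≤ A) (hV : V' ≤ V) :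
    (Nat.card A').Coprime (Nat.card V') := by
  have h1 : (Nat.card V').Coprime p :=
    Nat.Coprime.coprime_dvd_left (Subgroup.card_dvd_of_le hV) P.VcopP
  have h2 : Nat.card A' ∣ p ^ 2 := by
    rw [← P.elA.card]; exact Subgroup.card_dvd_of_le hA
  exact (coprime_of_dvd_pow_right h1 h2).symm

theorem pcopAR (P : PreTower p s A V S R) {A' R' : Subgroup G} (hA : A' ≤ A) (hR : R' ≤ R) :
    (Nat.card A').Coprime (Nat.card R') := by
  have h1 : (Nat.card R').Coprime p :=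
    Nat.Coprime.coprime_dvd_left (Subgroup.card_dvd_of_le hR) P.RcopP
  have h2 : Nat.card A' ∣ p ^ 2 := by
    rw [← P.elA.card]; exact Subgroup.card_dvd_of_le hA
  exact (coprime_of_dvd_pow_right h1 h2).symm

theorem pcopAS (P : PreTower p s A V S R) {A' S' : Subgroup G} (hA : A' ≤ A) (hS : S' ≤ S) :
    (Nat.card A').Coprime (Nat.card S') := by
  have := Fact.mk P.hs
  obtain ⟨n, hn⟩ := (IsPGroup.iff_card).mp P.Sgroup
  have h2 : Nat.card A' ∣ p ^ 2 := by
    rw [← P.elA.card]; exact Subgroup.card_dvd_of_le hA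
  have h3 : Nat.card S' ∣ s ^ n := hn ▸ Subgroup.card_dvd_of_le hS
  exact coprime_of_dvd_pow P.elA.hp P.hs P.hsp h2 h3

theorem solvA (P : PreTower p s A V S R) {A' : Subgroup G} (hA : A' ≤ A) :
    Group.IsSolvable A' :=
  Group.isSolvable_of_comm (fun a b => Subtype.ext (P.elA.comm a.1 (hA a.2) b.1 (hA b.2)))

theorem zpowers_comm_bar (V₀ : Subgroup G) [V₀.Normal] {a k : G}
    (h : QuotientGroup.mk' V₀ a * QuotientGroup.mk' V₀ k =
      QuotientGroup.mk' V₀ k * QuotientGroup.mk' V₀ a) :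
    ∀ b ∈ Subgroup.zpowers a, QuotientGroup.mk' V₀ b * QuotientGroup.mk' V₀ k =
      QuotientGroup.mk' V₀ k * QuotientGroup.mk' V₀ b := by
  rintro _ ⟨i, rfl⟩
  rw [map_zpow]
  exact (Commute.zpow_left (show Commute _ _ from h) i).eq

theorem bar (P : PreTower p s A V S R) (V₀ : Subgroup G) [V₀.Normal] (hV₀V : V₀ ≤ V)
    (hder : ⁅V, V⁆ ≤ V₀) :
    Tower p s (A.map (QuotientGroup.mk' V₀)) (V.map (QuotientGroup.mk' V₀))
      (S.map (QuotientGroup.mk' V₀)) (R.map (QuotientGroup.mk' V₀)) where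
  elA := by
    refine ⟨P.elA.hp, ?_, ?_, ?_⟩
    · rintro _ ⟨a, ha, rfl⟩ _ ⟨b, hb, rfl⟩
      rw [← map_mul, ← map_mul, P.elA.comm a ha b hb]
    · rintro _ ⟨a, ha, rfl⟩
      rw [← map_pow, P.elA.exp a ha, map_one]
    · rw [card_map_of_inj_on, P.elA.card]
      intro a ha h1
      rw [mk_eq_one_iff'] at h1
      exact eq_one_of_mem_of_coprime (P.pcopAV (le_refl A) hV₀V) ha h1
  hs := P.hs
  hsp := P.hsp
  VcopS := Nat.Coprime.coprime_dvd_left (Subgroup.card_map_dvd _ _) P.VcopS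
  VcopP := Nat.Coprime.coprime_dvd_left (Subgroup.card_map_dvd _ _) P.VcopP
  Sgroup := P.Sgroup.map _
  RcopS := Nat.Coprime.coprime_dvd_left (Subgroup.card_map_dvd _ _) P.RcopS
  RcopP := Nat.Coprime.coprime_dvd_left (Subgroup.card_map_dvd _ _) P.RcopP
  Rsolv := by
    have := P.Rsolv
    exact Group.isSolvable_of_surjective
      ((QuotientGroup.mk' V₀).subgroupMap_surjective R)
  AV := map_norm _ P.AV
  AS := map_norm _ P.AS
  AR := map_norm _ P.AR
  SV := map_norm _ P.SV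
  RV := map_norm _ P.RV
  RS := map_norm _ P.RS
  nilVS := by
    rintro _ ⟨a, ha, rfl⟩ ha1 _ ⟨v, hv, rfl⟩ hav _ ⟨y, hy, rfl⟩ hay
    have ha1' : a ≠ 1 := by
      rintro rfl
      exact ha1 (map_one _)
    have hB : Subgroup.zpowers a ≤ A := P.elA.zpowers_le ha
    obtain ⟨cv, hcv, hcvB, hcve⟩ := lift_fixed V₀ (hB.trans P.AV) (P.pcopAV hB (le_refl V))
      (Or.inl (P.solvA hB)) hv (zpowers_comm_bar V₀ hav)
    obtain ⟨cy, hcy, hcyB, hcye⟩ := lift_fixed V₀ (hB.trans P.AS) (P.pcopAS hB (le_refl S))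
      (Or.inl (P.solvA hB)) hy (zpowers_comm_bar V₀ hay)
    have h1 := P.nilVS a ha ha1' cv hcv (hcvB a (Subgroup.mem_zpowers a)) cy hcy
      (hcyB a (Subgroup.mem_zpowers a))
    rw [← hcve, ← hcye, ← map_mul, ← map_mul, h1]
  nilSR := by
    rintro _ ⟨a, ha, rfl⟩ ha1 _ ⟨y, hy, rfl⟩ hay _ ⟨x, hx, rfl⟩ hax
    have ha1' : a ≠ 1 := by
      rintro rfl
      exact ha1 (map_one _)
    have hB : Subgroup.zpowers a ≤ A := P.elA.zpowers_le ha
    obtain ⟨cy, hcy, hcyB, hcye⟩ := lift_fixed V₀ (hB.trans P.AS) (P.pcopAS hB (le_refl S))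
      (Or.inl (P.solvA hB)) hy (zpowers_comm_bar V₀ hay)
    obtain ⟨cx, hcx, hcxB, hcxe⟩ := lift_fixed V₀ (hB.trans P.AR) (P.pcopAR hB (le_refl R))
      (Or.inl (P.solvA hB)) hx (zpowers_comm_bar V₀ hax)
    have h1 := P.nilSR a ha ha1' cy hcy (hcyB a (Subgroup.mem_zpowers a)) cx hcx
      (hcxB a (Subgroup.mem_zpowers a))
    rw [← hcye, ← hcxe, ← map_mul, ← map_mul, h1]
  fpfS := by
    rintro _ ⟨y, hy, rfl⟩ hfix
    obtain ⟨c, hc, hcA, hce⟩ := lift_fixed V₀ P.AS (P.pcopAS (le_refl A) (le_refl S))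
      (Or.inl (P.solvA (le_refl A))) hy
      (fun b hb => hfix _ (Subgroup.mem_map_of_mem _ hb))
    rw [← hce, P.fpfS c hc hcA, map_one]
  fpfR := by
    rintro _ ⟨x, hx, rfl⟩ hfix
    obtain ⟨c, hc, hcA, hce⟩ := lift_fixed V₀ P.AR (P.pcopAR (le_refl A) (le_refl R))
      (Or.inl (P.solvA (le_refl A))) hx
      (fun b hb => hfix _ (Subgroup.mem_map_of_mem _ hb))
    rw [← hce, P.fpfR c hc hcA, map_one]
  Vcomm := by
    rintro _ ⟨v, hv, rfl⟩ _ ⟨w, hw, rfl⟩
    have h1 : ⁅v, w⁆ ∈ V₀ := hder (Subgroup.commutator_mem_commutator hv hw)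
    rw [← mk_eq_one_iff', commutatorElement_def, map_mul, map_mul, map_mul, map_inv, map_inv] at h1
    have : (QuotientGroup.mk' V₀) v * (QuotientGroup.mk' V₀) w =
        ((QuotientGroup.mk' V₀) v * (QuotientGroup.mk' V₀) w * ((QuotientGroup.mk' V₀) v)⁻¹ *
          ((QuotientGroup.mk' V₀) w)⁻¹) * ((QuotientGroup.mk' V₀) w * (QuotientGroup.mk' V₀) v) := by
      group
    rw [this, h1, one_mul]

theorem section_main (P : PreTower p s A V S R) (V₀ : Subgroup G) [V₀.Normal] (hV₀V : V₀ ≤ V)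
    (hder : ⁅V, V⁆ ≤ V₀) : ∀ t ∈ ⁅S, R⁆, ∀ v ∈ V, t * v * t⁻¹ * v⁻¹ ∈ V₀ := by
  intro t ht v hv
  have hT := (P.bar V₀ hV₀V hder).main
  rw [← Subgroup.map_commutator] at hT
  have h1 := hT (Subgroup.mem_map_of_mem (QuotientGroup.mk' V₀) ht)
  rw [Subgroup.mem_centralizer_iff] at h1
  have h2 := h1 _ (Subgroup.mem_map_of_mem (QuotientGroup.mk' V₀) hv)
  rw [← mk_eq_one_iff', map_mul, map_mul, map_mul, map_inv, map_inv, ← h2]
  group

end PreTower


end Cfsg.Agent.Lib.Helper1.Ward
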