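import Mathlib
import Cfsg.Agent.Lib.Helper1.Ward.Nilp

set_option autoImplicit false

namespace Cfsg.Agent.Lib.Helper1.Ward

variable {Γ : Type*} [Group Γ] [Finite Γ]

theorem sylow_sup_normal (M N : Subgroup Γ) [hM : M.Normal] [hN : N.Normal]
    (hnil : Group.IsNilpotent ↥(M.map (QuotientGroup.mk' N))) {s : ℕ} [Fact s.Prime]
    (P : Sylow s ↥M) : ((P : Subgroup ↥M).map M.subtype ⊔ N).Normal := by
  have hMt : (M.map (QuotientGroup.mk' N)).Normal :=
    Subgroup.Normal.map hM _ (QuotientGroup.mk'_surjective N)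
  have hf : Function.Surjective ((QuotientGroup.mk' N).subgroupMap M) :=
    (QuotientGroup.mk' N).subgroupMap_surjective M
  have hTn : ((P.mapSurjective hf : Sylow s ↥(M.map (QuotientGroup.mk' N))) :
      Subgroup ↥(M.map (QuotientGroup.mk' N))).Normal := inferInstance
  have hchar : ((P.mapSurjective hf : Sylow s ↥(M.map (QuotientGroup.mk' N))) :
      Subgroup ↥(M.map (QuotientGroup.mk' N))).Characteristic :=
    Sylow.characteristic_of_normal _ hTn
  have hn1 : (((P.mapSurjective hf : Sylow s ↥(M.map (QuotientGroup.mk' N))) :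
      Subgroup ↥(M.map (QuotientGroup.mk' N))).map (M.map (QuotientGroup.mk' N)).subtype).Normal :=
    ConjAct.normal_of_characteristic_of_normal
  have e1 : ((P.mapSurjective hf : Sylow s ↥(M.map (QuotientGroup.mk' N))) :
      Subgroup ↥(M.map (QuotientGroup.mk' N))).map (M.map (QuotientGroup.mk' N)).subtype =
      ((P : Subgroup ↥M).map M.subtype).map (QuotientGroup.mk' N) := by
    rw [Sylow.coe_mapSurjective, Subgroup.map_map, Subgroup.map_map]
    rfl
  rw [e1] at hn1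
  have hn2 := hn1.comap (QuotientGroup.mk' N)
  rw [Subgroup.comap_map_eq, QuotientGroup.ker_mk'] at hn2
  exact hn2

theorem selem_mem_sup {M N : Subgroup Γ} {s : ℕ} [Fact s.Prime] (P : Sylow s ↥M)
    (hn : ((P : Subgroup ↥M).map M.subtype ⊔ N).Normal) {u : Γ} (hu : u ∈ M)
    (hus : ∃ k, u ^ (s ^ k) = 1) : u ∈ (P : Subgroup ↥M).map M.subtype ⊔ N := by
  have hz : IsPGroup s (Subgroup.zpowers (⟨u, hu⟩ : ↥M)) := by
    obtain ⟨k, hk⟩ := hus
    rintro ⟨_, i, rfl⟩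
    refine ⟨k, ?_⟩
    apply Subtype.ext
    apply Subtype.ext
    simp only [Subgroup.coe_pow, Subgroup.coe_zpow, Subgroup.coe_one]
    rw [← zpow_natCast, ← zpow_mul, mul_comm, zpow_mul, zpow_natCast, hk, one_zpow]
  obtain ⟨Q', hQ'⟩ := hz.exists_le_sylow
  obtain ⟨g, rfl⟩ := MulAction.exists_smul_eq ↥M P Q'
  have h1 : (⟨u, hu⟩ : ↥M) ∈ ((g • P : Sylow s ↥M) : Subgroup ↥M) :=
    hQ' (Subgroup.mem_zpowers _)
  rw [Sylow.coe_subgroup_smul, Subgroup.mem_smul_pointwise_iff_exists] at h1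
  obtain ⟨y, hy, hyu⟩ := h1
  have h2 : (g : Γ) * (y : Γ) * (g : Γ)⁻¹ = u := by
    have := congrArg Subtype.val hyu
    simpa [MulAut.smul_def] using this
  rw [← h2]
  apply hn.conj_mem
  exact Subgroup.mem_sup_left ⟨y, hy, rfl⟩

theorem frattini_inf {G M : Subgroup Γ} [hM : M.Normal] (hMG : M ≤ G) {s : ℕ} [Fact s.Prime]
    (P : Sylow s ↥M) :
    G ≤ (G ⊓ Subgroup.normalizer (((P : Subgroup ↥M).map M.subtype : Subgroup Γ) : Set Γ)) ⊔ M := by
  intro g hg
  have h1 : g ∈ Subgroup.normalizer (((P : Subgroup ↥M).map M.subtype : Subgroup Γ) : Set Γ) ⊔ M := by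
    rw [Sylow.normalizer_sup_eq_top P]; trivial
  have h2 : g ∈ ((Subgroup.normalizer (((P : Subgroup ↥M).map M.subtype : Subgroup Γ) : Set Γ) ⊔ M :
      Subgroup Γ) : Set Γ) := h1
  rw [Subgroup.mul_normal] at h2
  obtain ⟨n, hn, m, hm, rfl⟩ := h2
  have hnG : n ∈ G := by
    have e : n = (n * m) * m⁻¹ := by group
    rw [e]
    exact G.mul_mem hg (G.inv_mem (hMG hm))
  exact Subgroup.mul_mem_sup ⟨hnG, hn⟩ hm

theorem sylow_sup_inf {N M : Subgroup Γ} [hM : M.Normal] {r : ℕ} [hr : Fact r.Prime]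
    (hpow : ∀ n ∈ N, ∃ k, n ^ (r ^ k) ∈ M) (Q : Sylow r ↥N) :
    N ≤ (Q : Subgroup ↥N).map N.subtype ⊔ (N ⊓ M) := by
  have hKn : (M.subgroupOf N).Normal := Subgroup.normal_subgroupOf
  have hpow' : ∀ g : ↥N, ∃ k, g ^ (r ^ k) ∈ M.subgroupOf N := by
    intro g
    obtain ⟨k, hk⟩ := hpow g.1 g.2
    refine ⟨k, ?_⟩
    rw [Subgroup.mem_subgroupOf]
    simpa using hk
  have h1 := sup_sylow_eq_top (M.subgroupOf N) hpow' Q
  have h2 : N = (⊤ : Subgroup ↥N).map N.subtype := by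
    rw [← MonoidHom.range_eq_map, Subgroup.range_subtype]
  conv_lhs => rw [h2, ← h1, Subgroup.map_sup, Subgroup.subgroupOf_map_subtype]
  rw [sup_comm, inf_comm]

end Cfsg.Agent.Lib.Helper1.Ward
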