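import Mathlib
import Cfsg.Agent.S0023
import Cfsg.Agent.S0029
import Cfsg.Agent.Lib.Helper1.Frat
import Cfsg.Agent.Lib.Helper1.Ward.Section
import Cfsg.Agent.Lib.Helper1.Ward.OrRes
import Cfsg.Agent.Lib.Helper1.Ward.FitOf
import Cfsg.Agent.Lib.Helper1.Ward.CentNil
import Cfsg.Agent.Lib.Helper1.Ward.SylowNorm

set_option autoImplicit false
set_option linter.unusedSectionVars false

open scoped commutatorElement

namespace Cfsg.Agent.Lib.Helper1.Ward

open Cfsg.Agent.Lib.Helper11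

universe u

variable {Γ : Type u} [Group Γ] [Finite Γ]

structure Good (p : ℕ) (A G : Subgroup Γ) : Prop where
  elA : ElAb p A
  normal : G.Normal
  cop : (Nat.card G).Coprime p
  solv : Group.IsSolvable G
  fpf : ∀ g ∈ G, (∀ a ∈ A, a * g = g * a) → g = 1

def Qs (G : Subgroup Γ) (s : ℕ) : Subgroup Γ :=
  ⨆ q : {q : Nat.Primes // (q : ℕ) ≠ s}, Oq G ((q : Nat.Primes) : ℕ)

theorem Qs_normal (G : Subgroup Γ) [G.Normal] (s : ℕ) : (Qs G s).Normal := by
  have : ∀ q : {q : Nat.Primes // (q : ℕ) ≠ s}, (Oq G ((q : Nat.Primes) : ℕ)).Normal :=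
    fun q => Oq_normal G _
  unfold Qs
  exact Subgroup.iSup_normal _

theorem fitOf_le_sup (G : Subgroup Γ) {s : ℕ} (hs : s.Prime) :
    Cfsg.fittingOf G ≤ Oq G s ⊔ Qs G s := by
  rw [fitOf_eq_iSup]
  apply iSup_le
  intro q
  by_cases hqs : (q : ℕ) = s
  · rw [hqs]; exact le_sup_left
  · exact le_trans (le_iSup (fun q : {q : Nat.Primes // (q : ℕ) ≠ s} =>
      Oq G ((q : Nat.Primes) : ℕ)) ⟨q, hqs⟩) le_sup_right

theorem pow_mem_Qs (G : Subgroup Γ) [G.Normal] {s : ℕ} (hs : s.Prime) {f : Γ}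
    (hf : f ∈ Cfsg.fittingOf G) : ∃ k, f ^ (s ^ k) ∈ Qs G s := by
  have hQn := Qs_normal G s
  have h1 : f ∈ ((Oq G s ⊔ Qs G s : Subgroup Γ) : Set Γ) := fitOf_le_sup G hs hf
  rw [Subgroup.mul_normal] at h1
  obtain ⟨o, ho, z, hz, rfl⟩ := h1
  obtain ⟨k, hk⟩ := Oq_isPGroup G s ⟨o, ho⟩
  have hk' : o ^ (s ^ k) = 1 := congrArg Subtype.val hk
  refine ⟨k, ?_⟩
  rw [← QuotientGroup.eq_one_iff (N := Qs G s), QuotientGroup.mk_pow, QuotientGroup.mk_mul,
    (QuotientGroup.eq_one_iff z).mpr hz, mul_one, ← QuotientGroup.mk_pow, hk']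
  rfl

namespace Good

variable {p : ℕ} {A G : Subgroup Γ}

theorem sub (hG : Good p A G) {M : Subgroup Γ} (hM : M.Normal) (hMG : M ≤ G) : Good p A M where
  elA := hG.elA
  normal := hM
  cop := Nat.Coprime.coprime_dvd_left (Subgroup.card_dvd_of_le hMG) hG.cop
  solv := by
    have := hG.solv
    exact Group.isSolvable_of_isSolvable_injective (Subgroup.inclusion_injective hMG)
  fpf := fun g hg h => hG.fpf g (hMG hg) h

theorem norm_top (hG : Good p A G) (E : Subgroup Γ) :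
    E ≤ Subgroup.normalizer (G : Set Γ) := by
  have := hG.normal
  rw [Subgroup.normalizer_eq_top]
  exact le_top

theorem commute_of_nil (hG : Good p A G) {a : Γ} (ha : a ∈ A) (ha1 : a ≠ 1) {x y : Γ}
    (hx : x ∈ G) (hy : y ∈ G) (hax : a * x = x * a) (hay : a * y = y * a)
    (hcop : (orderOf x).Coprime (orderOf y)) : x * y = y * x := by
  have hnil := cent_nilpotent hG.elA (hG.norm_top A) hG.fpf ha ha1
  have hxC : x ∈ G ⊓ Subgroup.centralizer ({a} : Set Γ) :=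
    ⟨hx, Subgroup.mem_centralizer_singleton_iff.mpr hax.symm⟩
  have hyC : y ∈ G ⊓ Subgroup.centralizer ({a} : Set Γ) :=
    ⟨hy, Subgroup.mem_centralizer_singleton_iff.mpr hay.symm⟩
  have h1 : Commute (⟨x, hxC⟩ : ↥(G ⊓ Subgroup.centralizer ({a} : Set Γ))) ⟨y, hyC⟩ := by
    apply commute_of_coprime_orderOf
    rw [Subgroup.orderOf_mk, Subgroup.orderOf_mk]
    exact hcop
  exact congrArg Subtype.val h1.eq

theorem orderOf_coprime_of_pgroups {S R : Subgroup Γ} {s r : ℕ} (hs : s.Prime) (hr : r.Prime)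
    (hsr : s ≠ r) (hS : IsPGroup s S) (hR : IsPGroup r R) {x y : Γ} (hx : x ∈ S) (hy : y ∈ R) :
    (orderOf x).Coprime (orderOf y) := by
  obtain ⟨i, hi⟩ := hS ⟨x, hx⟩
  obtain ⟨j, hj⟩ := hR ⟨y, hy⟩
  have hi' : x ^ (s ^ i) = 1 := congrArg Subtype.val hi
  have hj' : y ^ (r ^ j) = 1 := congrArg Subtype.val hj
  have h1 : orderOf x ∣ s ^ i := orderOf_dvd_of_pow_eq_one hi'
  have h2 : orderOf y ∣ r ^ j := orderOf_dvd_of_pow_eq_one hj'
  exact Nat.Coprime.coprime_dvd_left h1 (Nat.Coprime.coprime_dvd_right h2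
    (Nat.Coprime.pow i j ((Nat.coprime_primes hs hr).mpr hsr)))

theorem card_coprime_of_pgroup {S : Subgroup Γ} {s q : ℕ} (hs : s.Prime) (hq : q.Prime)
    (hsq : s ≠ q) (hS : IsPGroup s S) : (Nat.card S).Coprime q := by
  have := Fact.mk hs
  obtain ⟨n, hn⟩ := (IsPGroup.iff_card).mp hS
  rw [hn]
  exact Nat.Coprime.pow_left n ((Nat.coprime_primes hs hq).mpr hsq)

theorem preTower (hG : Good p A G) {q s r : ℕ} (hq : q.Prime) (hs : s.Prime) (hr : r.Prime)
    (hqs : q ≠ s) (hsr : s ≠ r) (hsp : s ≠ p) {S R : Subgroup Γ} (hSG : S ≤ G) (hRG : R ≤ G)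
    (hS : IsPGroup s S) (hR : IsPGroup r R)
    (hAS : A ≤ Subgroup.normalizer (S : Set Γ)) (hAR : A ≤ Subgroup.normalizer (R : Set Γ))
    (hRS : R ≤ Subgroup.normalizer (S : Set Γ)) :
    PreTower p s A (Oq G q) S R where
  elA := hG.elA
  hs := hs
  hsp := hsp
  VcopS := card_coprime_of_pgroup hq hs hqs (Oq_isPGroup G q)
  VcopP := Nat.Coprime.coprime_dvd_left (Subgroup.card_dvd_of_le (Oq_le G q)) hG.cop
  Sgroup := hS
  RcopS := card_coprime_of_pgroup hr hs (Ne.symm hsr) hR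
  RcopP := Nat.Coprime.coprime_dvd_left (Subgroup.card_dvd_of_le hRG) hG.cop
  Rsolv := by
    have := hG.solv
    exact Group.isSolvable_of_isSolvable_injective (Subgroup.inclusion_injective hRG)
  AV := by
    have := hG.normal
    have := Oq_normal G q
    rw [Subgroup.normalizer_eq_top]; exact le_top
  AS := hAS
  AR := hAR
  SV := by
    have := hG.normal
    have := Oq_normal G q
    rw [Subgroup.normalizer_eq_top]; exact le_top
  RV := by
    have := hG.normal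
    have := Oq_normal G q
    rw [Subgroup.normalizer_eq_top]; exact le_top
  RS := hRS
  nilVS := by
    intro a ha ha1 v hv hav y hy hay
    exact hG.commute_of_nil ha ha1 (Oq_le G q hv) (hSG hy) hav hay
      (orderOf_coprime_of_pgroups hq hs hqs (Oq_isPGroup G q) hS hv hy)
  nilSR := by
    intro a ha ha1 y hy hay x hx hax
    exact hG.commute_of_nil ha ha1 (hSG hy) (hRG hx) hay hax
      (orderOf_coprime_of_pgroups hs hr hsr hS hR hy hx)
  fpfS := fun y hy h => hG.fpf y (hSG hy) h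
  fpfR := fun x hx h => hG.fpf x (hRG hx) h

theorem comm_cent_Oq (hG : Good p A G) {q s r : ℕ} (hq : q.Prime) (hs : s.Prime) (hr : r.Prime)
    (hqs : q ≠ s) (hsr : s ≠ r) (hsp : s ≠ p) {S R : Subgroup Γ} (hSG : S ≤ G) (hRG : R ≤ G)
    (hS : IsPGroup s S) (hR : IsPGroup r R)
    (hAS : A ≤ Subgroup.normalizer (S : Set Γ)) (hAR : A ≤ Subgroup.normalizer (R : Set Γ))
    (hRS : R ≤ Subgroup.normalizer (S : Set Γ)) :
    ⁅S, R⁆ ≤ Subgroup.centralizer ((Oq G q : Subgroup Γ) : Set Γ) := by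
  have hP := hG.preTower hq hs hr hqs hsr hsp hSG hRG hS hR hAS hAR hRS
  have := hG.normal
  have hVn := Oq_normal G q
  have := Fact.mk hq
  have hV₀n : ((frattini ↥(Oq G q)).map (Oq G q).subtype).Normal :=
    ConjAct.normal_of_characteristic_of_normal
  have hder : ⁅Oq G q, Oq G q⁆ ≤ (frattini ↥(Oq G q)).map (Oq G q).subtype := by
    rw [← Subgroup.map_subtype_commutator]
    exact Subgroup.map_mono (Cfsg.Agent.Lib.Helper1.pgroup_commutator_le_frattini (Oq_isPGroup G q))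
  have hsec := hP.section_main ((frattini ↥(Oq G q)).map (Oq G q).subtype)
    (Subgroup.map_subtype_le _) hder
  have hSRS : ⁅S, R⁆ ≤ S := Subgroup.le_normalizer_iff_commutator_le_left.mp hRS
  apply Cfsg.Agent.S0029.result ⁅S, R⁆ (Oq G q)
  · rw [Subgroup.normalizer_eq_top]; exact le_top
  · have h1 : (Nat.card ↥(⁅S, R⁆ : Subgroup Γ)).Coprime q :=
      Nat.Coprime.coprime_dvd_left (Subgroup.card_dvd_of_le hSRS)
        (card_coprime_of_pgroup hs hq (Ne.symm hqs) hS)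
    obtain ⟨n, hn⟩ := (IsPGroup.iff_card).mp (Oq_isPGroup G q)
    have h2 : Nat.card ↥(frattini ↥(Oq G q)) ∣ q ^ n := by
      rw [← hn]; exact Subgroup.card_subgroup_dvd_card _
    exact Nat.Coprime.coprime_dvd_right h2 (Nat.Coprime.pow_right n h1)
  · intro a ha k hk
    exact hsec a ha k hk

theorem Dprime_le (hG : Good p A G) {s : ℕ} (hs : s.Prime) (Ps : Subgroup Γ) (hPn : Ps.Normal)
    (hPG : Ps ≤ G) (hPpow : ∀ x ∈ Ps, ∃ k, x ^ (s ^ k) ∈ Cfsg.fittingOf G) :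
    Ps ⊓ Subgroup.centralizer ((Qs G s : Subgroup Γ) : Set Γ) ≤ Cfsg.fittingOf G := by
  have := hG.normal
  have hQn := Qs_normal G s
  have hCn : (Subgroup.centralizer ((Qs G s : Subgroup Γ) : Set Γ)).Normal :=
    Subgroup.normal_centralizer
  have hDn : (Ps ⊓ Subgroup.centralizer ((Qs G s : Subgroup Γ) : Set Γ)).Normal :=
    Subgroup.normal_inf_normal _ _
  apply le_fitOf (inf_le_left.trans hPG)
  · rw [Subgroup.normalizer_eq_top]; exact le_top
  · apply nilpotent_of_central_pow hs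
      ((Qs G s).subgroupOf (Ps ⊓ Subgroup.centralizer ((Qs G s : Subgroup Γ) : Set Γ)))
    · intro z hz
      rw [Subgroup.mem_center_iff]
      intro d
      apply Subtype.ext
      have hd := Subgroup.mem_centralizer_iff.mp d.2.2 z.1 (Subgroup.mem_subgroupOf.mp hz)
      exact hd.symm
    · intro x
      obtain ⟨k₁, hk₁⟩ := hPpow x.1 x.2.1
      obtain ⟨k₂, hk₂⟩ := pow_mem_Qs G hs hk₁
      refine ⟨k₁ + k₂, ?_⟩
      rw [Subgroup.mem_subgroupOf]
      have e : ((x ^ (s ^ (k₁ + k₂)) : ↥(Ps ⊓ Subgroup.centralizer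
          ((Qs G s : Subgroup Γ) : Set Γ))) : Γ) = ((x : Γ) ^ (s ^ k₁)) ^ (s ^ k₂) := by
        rw [Subgroup.coe_pow, pow_add, pow_mul]
      rw [e]
      exact hk₂

theorem copA (hG : Good p A G) {N : Subgroup Γ} (hNG : N ≤ G) :
    (Nat.card A).Coprime (Nat.card N) := by
  rw [hG.elA.card]
  exact (Nat.Coprime.pow_right 2
    (Nat.Coprime.coprime_dvd_left (Subgroup.card_dvd_of_le hNG) hG.cop)).symm

theorem solvA (hG : Good p A G) : Group.IsSolvable A :=
  Group.isSolvable_of_comm (fun a b => Subtype.ext (hG.elA.comm a.1 a.2 b.1 b.2))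

theorem map_nilpotent_of_lcs {M N : Subgroup Γ} [N.Normal] {k : ℕ}
    (h : M.lowerCentralSeries k ≤ N) :
    Group.IsNilpotent ↥(M.map (QuotientGroup.mk' N)) := by
  rw [Subgroup.isNilpotent_iff_lowerCentralSeries]
  refine ⟨k, ?_⟩
  rw [← Subgroup.map_lowerCentralSeries, Subgroup.map_eq_bot_iff, QuotientGroup.ker_mk']
  exact h

theorem per_prime (hG : Good p A G) {r : ℕ} (hr : r.Prime) {M : Subgroup Γ} (hM : M.Normal)
    (hMG : M ≤ G) (hpow : ∀ g ∈ G, ∃ k, g ^ (r ^ k) ∈ M)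
    (hMnil : ∃ k, M.lowerCentralSeries k ≤ Cfsg.fittingOf M) {s : ℕ} (hs : s.Prime)
    (hsr : s ≠ r) :
    ∃ S R₂ : Subgroup Γ, R₂ ≤ G ∧ G ≤ M ⊔ R₂ ∧
      (∀ u ∈ M, (∃ k, u ^ (s ^ k) = 1) → u ∈ S ⊔ Cfsg.fittingOf M) ∧
      ⁅S, R₂⁆ ≤ Cfsg.fittingOf G := by
  have := Fact.mk hs
  have := Fact.mk hr
  have hGn := hG.normal
  have hFMn := fitOf_normal M
  have hFMG : Cfsg.fittingOf M ≤ Cfsg.fittingOf G := fitOf_mono hMG
  obtain ⟨P, hAP⟩ := Cfsg.Agent.S0023.result A M ((hG.sub hM hMG).norm_top A) (hG.copA hMG)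
    (Or.inl hG.solvA) s
  obtain ⟨S, hSdef⟩ : ∃ S : Subgroup Γ, S = (P : Subgroup ↥M).map M.subtype := ⟨_, rfl⟩
  rw [← hSdef] at hAP
  have hSM : S ≤ M := by rw [hSdef]; exact Subgroup.map_subtype_le _
  have hSp : IsPGroup s S := by rw [hSdef]; exact P.isPGroup'.map _
  obtain ⟨k, hk⟩ := hMnil
  have hMt : Group.IsNilpotent ↥(M.map (QuotientGroup.mk' (Cfsg.fittingOf M))) :=
    map_nilpotent_of_lcs hk
  have hPsn : (S ⊔ Cfsg.fittingOf M).Normal := by
    rw [hSdef]; exact sylow_sup_normal M (Cfsg.fittingOf M) hMt P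
  have hselem : ∀ u ∈ M, (∃ k, u ^ (s ^ k) = 1) → u ∈ S ⊔ Cfsg.fittingOf M := by
    intro u hu hus
    rw [hSdef]
    exact selem_mem_sup P (hSdef ▸ hPsn) hu hus
  have hfr : G ≤ (G ⊓ Subgroup.normalizer (S : Set Γ)) ⊔ M := by
    rw [hSdef]; exact frattini_inf hMG P
  have hAN : A ≤ Subgroup.normalizer
      ((G ⊓ Subgroup.normalizer (S : Set Γ) : Subgroup Γ) : Set Γ) :=
    normalizer_inf (hG.norm_top A) (hAP.trans Subgroup.le_normalizer)
  obtain ⟨Q, hAQ⟩ := Cfsg.Agent.S0023.result A (G ⊓ Subgroup.normalizer (S : Set Γ)) hAN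
    (hG.copA inf_le_left) (Or.inl hG.solvA) r
  obtain ⟨R₂, hRdef⟩ : ∃ R₂ : Subgroup Γ,
      R₂ = (Q : Subgroup ↥(G ⊓ Subgroup.normalizer (S : Set Γ))).map
        (G ⊓ Subgroup.normalizer (S : Set Γ)).subtype := ⟨_, rfl⟩
  rw [← hRdef] at hAQ
  have hRN : R₂ ≤ G ⊓ Subgroup.normalizer (S : Set Γ) := by
    rw [hRdef]; exact Subgroup.map_subtype_le _
  have hRG : R₂ ≤ G := hRN.trans inf_le_left
  have hRS : R₂ ≤ Subgroup.normalizer (S : Set Γ) := hRN.trans inf_le_right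
  have hRp : IsPGroup r R₂ := by rw [hRdef]; exact Q.isPGroup'.map _
  have hNsup : G ⊓ Subgroup.normalizer (S : Set Γ) ≤
      R₂ ⊔ ((G ⊓ Subgroup.normalizer (S : Set Γ)) ⊓ M) := by
    rw [hRdef]
    exact sylow_sup_inf (N := G ⊓ Subgroup.normalizer (S : Set Γ))
      (fun n hn => hpow n (Subgroup.mem_inf.mp hn).1) Q
  have hGsup : G ≤ M ⊔ R₂ := by
    refine hfr.trans (sup_le (hNsup.trans (sup_le le_sup_right ?_)) le_sup_left)
    exact inf_le_right.trans le_sup_left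
  refine ⟨S, R₂, hRG, hGsup, hselem, ?_⟩
  by_cases hsp : s = p
  · have hSbot : S = ⊥ := by
      rw [eq_bot_iff]
      intro y hy
      rw [Subgroup.mem_bot]
      obtain ⟨i, hi⟩ := hSp ⟨y, hy⟩
      have hi' : y ^ (s ^ i) = 1 := congrArg Subtype.val hi
      have h1 : orderOf y ∣ s ^ i := orderOf_dvd_of_pow_eq_one hi'
      have h2 : orderOf y ∣ Nat.card G := by
        have := orderOf_dvd_natCard (⟨y, hMG (hSM hy)⟩ : ↥G)
        rwa [Subgroup.orderOf_mk] at this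
      have h3 : (Nat.card G).Coprime (s ^ i) := by
        rw [hsp]; exact Nat.Coprime.pow_right i hG.cop
      have h4 := Nat.dvd_gcd h2 h1
      rw [h3] at h4
      exact orderOf_eq_one_iff.mp (Nat.dvd_one.mp h4)
    rw [hSbot, Subgroup.commutator_bot_left]
    exact bot_le
  · have hcent : ⁅S, R₂⁆ ≤ Subgroup.centralizer ((Qs G s : Subgroup Γ) : Set Γ) := by
      rw [Subgroup.le_centralizer_iff]
      unfold Qs
      apply iSup_le
      intro q
      rw [← Subgroup.le_centralizer_iff]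
      exact hG.comm_cent_Oq q.1.2 hs hr q.2 hsr hsp (hSM.trans hMG) hRG hSp hRp hAP hAQ hRS
    have hSRS : ⁅S, R₂⁆ ≤ S := Subgroup.le_normalizer_iff_commutator_le_left.mp hRS
    have hPpow : ∀ x ∈ S ⊔ Cfsg.fittingOf M, ∃ k, x ^ (s ^ k) ∈ Cfsg.fittingOf G := by
      intro x hx
      have hx' : x ∈ ((S ⊔ Cfsg.fittingOf M : Subgroup Γ) : Set Γ) := hx
      rw [Subgroup.mul_normal] at hx'
      obtain ⟨y, hy, f, hf, rfl⟩ := hx'
      obtain ⟨i, hi⟩ := hSp ⟨y, hy⟩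
      have hi' : y ^ (s ^ i) = 1 := congrArg Subtype.val hi
      refine ⟨i, hFMG ?_⟩
      rw [← QuotientGroup.eq_one_iff (N := Cfsg.fittingOf M), QuotientGroup.mk_pow,
        QuotientGroup.mk_mul, (QuotientGroup.eq_one_iff f).mpr hf, mul_one,
        ← QuotientGroup.mk_pow, hi']
      rfl
    have hD := hG.Dprime_le hs (S ⊔ Cfsg.fittingOf M) hPsn
      (sup_le (hSM.trans hMG) ((fitOf_le M).trans hMG)) hPpow
    exact (le_inf (hSRS.trans le_sup_left) hcent).trans hD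

end Good




theorem card_lt_of_lt'' {H K : Subgroup Γ} (h : H < K) : Nat.card H < Nat.card K :=
  lt_of_le_of_ne (Subgroup.card_le_of_le h.le)
    (fun heq => h.ne (Subgroup.eq_of_le_of_card_ge h.le heq.ge))

theorem comm_bar_of_selem {p : ℕ} {A G M S R₂ : Subgroup Γ} (hG : Good p A G) [hFn : (Cfsg.fittingOf G).Normal]
    (hMn : M.Normal) (hMG : M ≤ G) {s : ℕ} (hs : s.Prime)
    (hselem : ∀ u ∈ M, (∃ k, u ^ (s ^ k) = 1) → u ∈ S ⊔ Cfsg.fittingOf M)
    (hcomm : ⁅S, R₂⁆ ≤ Cfsg.fittingOf G) {x m : Γ} (hx : x ∈ R₂) (hm : m ∈ M)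
    (hms : ∃ k, (QuotientGroup.mk' (Cfsg.fittingOf G) m) ^ (s ^ k) = 1) :
    QuotientGroup.mk' (Cfsg.fittingOf G) x * QuotientGroup.mk' (Cfsg.fittingOf G) m =
      QuotientGroup.mk' (Cfsg.fittingOf G) m * QuotientGroup.mk' (Cfsg.fittingOf G) x := by
  have hFMn := fitOf_normal M
  have hFMG : Cfsg.fittingOf M ≤ Cfsg.fittingOf G := fitOf_mono hMG
  obtain ⟨k, hk⟩ := hms
  obtain ⟨u, v, hu, hv, huv, ⟨i, hui⟩, hvc⟩ := exists_p_parts s hs m (orderOf_pos m)
  have hzM : Subgroup.zpowers m ≤ M := Subgroup.zpowers_le.mpr hm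
  have hv1 : QuotientGroup.mk' (Cfsg.fittingOf G) v = 1 := by
    rw [← orderOf_eq_one_iff]
    have h1 : orderOf (QuotientGroup.mk' (Cfsg.fittingOf G) v) ∣ orderOf v :=
      orderOf_map_dvd _ v
    have h2 : orderOf (QuotientGroup.mk' (Cfsg.fittingOf G) v) ∣ s ^ k := by
      apply orderOf_dvd_of_pow_eq_one
      obtain ⟨j, rfl⟩ := hv
      rw [map_zpow, ← zpow_natCast, ← zpow_mul, mul_comm, zpow_mul, zpow_natCast, hk, one_zpow]
    have h3 := Nat.dvd_gcd h1 h2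
    rw [Nat.Coprime.pow_right k hvc] at h3
    exact Nat.dvd_one.mp h3
  have hmu : QuotientGroup.mk' (Cfsg.fittingOf G) m = QuotientGroup.mk' (Cfsg.fittingOf G) u := by
    conv_lhs => rw [huv]
    rw [map_mul, hv1, mul_one]
  have huS : u ∈ ((S ⊔ Cfsg.fittingOf M : Subgroup Γ) : Set Γ) := hselem u (hzM hu) ⟨i, hui⟩
  rw [Subgroup.mul_normal] at huS
  obtain ⟨y, hy, f, hf, hyf⟩ := huS
  have huy : QuotientGroup.mk' (Cfsg.fittingOf G) u = QuotientGroup.mk' (Cfsg.fittingOf G) y := by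
    rw [← hyf, map_mul, (mk_eq_one_iff' _ f).mpr (hFMG hf), mul_one]
  rw [hmu, huy]
  have h1 : ⁅y, x⁆ ∈ Cfsg.fittingOf G := hcomm (Subgroup.commutator_mem_commutator hy hx)
  rw [← mk_eq_one_iff', commutatorElement_def, map_mul, map_mul, map_mul, map_inv, map_inv] at h1
  have e : QuotientGroup.mk' (Cfsg.fittingOf G) y * QuotientGroup.mk' (Cfsg.fittingOf G) x =
      (QuotientGroup.mk' (Cfsg.fittingOf G) y * QuotientGroup.mk' (Cfsg.fittingOf G) x *
        (QuotientGroup.mk' (Cfsg.fittingOf G) y)⁻¹ * (QuotientGroup.mk' (Cfsg.fittingOf G) x)⁻¹) *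
      (QuotientGroup.mk' (Cfsg.fittingOf G) x * QuotientGroup.mk' (Cfsg.fittingOf G) y) := by group
  rw [e, h1, one_mul]

theorem metanil_aux {p : ℕ} {A : Subgroup Γ} : ∀ n : ℕ, ∀ G : Subgroup Γ, Nat.card G = n →
    Good p A G → ∃ k, G.lowerCentralSeries k ≤ Cfsg.fittingOf G := by
  intro n
  induction n using Nat.strong_induction_on with
  | _ n ih =>
    intro G hn hG
    by_cases hbot : G = ⊥
    · refine ⟨0, ?_⟩
      rw [Subgroup.lowerCentralSeries_zero, hbot]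
      exact bot_le
    have hGs := hG.solv
    have hGnt : Nontrivial ↥G := (Subgroup.nontrivial_iff_ne_bot G).mpr hbot
    obtain ⟨N, hNn, hNr⟩ := exists_normal_prime_idx (H := ↥G)
    obtain ⟨r, hrdef⟩ : ∃ r : ℕ, r = N.index := ⟨_, rfl⟩
    have hr : r.Prime := hrdef ▸ hNr
    have hMn : (Or G r).Normal := Or_normal hG.normal r
    have hMG : Or G r ≤ G := Or_le G r
    have hMne : Or G r ≠ G := Or_ne hr N hrdef.symm
    have hlt : Nat.card (Or G r) < Nat.card G := card_lt_of_lt'' (lt_of_le_of_ne hMG hMne)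
    have hMnil := ih (Nat.card (Or G r)) (hn ▸ hlt) (Or G r) rfl (hG.sub hMn hMG)
    have hpow : ∀ g ∈ G, ∃ k, g ^ (r ^ k) ∈ Or G r := fun g hg => pow_mem_Or hr hg
    have hGn := hG.normal
    have hFn := fitOf_normal G
    have hX : Group.IsNilpotent ↥(G.map (QuotientGroup.mk' (Cfsg.fittingOf G))) := by
      apply nilpotent_of_rgroup_ext_sub (G.map (QuotientGroup.mk' (Cfsg.fittingOf G)))
        ((Or G r).map (QuotientGroup.mk' (Cfsg.fittingOf G))) (Subgroup.map_mono hMG) _ _ hr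
      · rintro _ ⟨g, hg, rfl⟩
        obtain ⟨k, hk⟩ := hpow g hg
        exact ⟨k, by rw [← map_pow]; exact Subgroup.mem_map_of_mem _ hk⟩
      · intro s hs hsr
        obtain ⟨S, R₂, hRG, hGsup, hselem, hcomm⟩ :=
          hG.per_prime hr hMn hMG hpow hMnil hs hsr
        refine ⟨R₂.map (QuotientGroup.mk' (Cfsg.fittingOf G)), Subgroup.map_mono hRG, ?_, ?_⟩
        · rw [← Subgroup.map_sup]
          exact Subgroup.map_mono hGsup
        · rintro _ ⟨x, hx, rfl⟩ _ ⟨m, hm, rfl⟩ hms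
          exact comm_bar_of_selem hG hMn hMG hs hselem hcomm hx hm hms
      · have : ((Or G r).map (QuotientGroup.mk' (Cfsg.fittingOf G))).Normal :=
          Subgroup.Normal.map hMn _ (QuotientGroup.mk'_surjective _)
        rw [Subgroup.normalizer_eq_top]
        exact le_top
      · obtain ⟨k, hk⟩ := hMnil
        exact Good.map_nilpotent_of_lcs (hk.trans (fitOf_mono hMG))
    obtain ⟨k, hk⟩ := (Subgroup.isNilpotent_iff_lowerCentralSeries _).mp hX
    refine ⟨k, ?_⟩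
    rw [← Subgroup.map_lowerCentralSeries, Subgroup.map_eq_bot_iff, QuotientGroup.ker_mk'] at hk
    exact hk

theorem metanil {p : ℕ} {A G : Subgroup Γ} (hG : Good p A G) :
    ∃ k, G.lowerCentralSeries k ≤ Cfsg.fittingOf G :=
  metanil_aux _ G rfl hG

end Cfsg.Agent.Lib.Helper1.Ward
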