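import Mathlib
import Cfsg.Agent.Lib.Helper1.Ward.Reduce

set_option autoImplicit false

namespace Cfsg.Agent.Lib.Helper1.Ward

universe u

open SemidirectProduct

theorem coprime_of_fpf {G₀ : Type u} [Group G₀] [Finite G₀] {p : ℕ} (hp : p.Prime)
    (A : Subgroup (MulAut G₀)) (hcard : Nat.card A = p ^ 2)
    (hfpf : ∀ g : G₀, (∀ a ∈ A, a g = g) → g = 1) : (Nat.card G₀).Coprime p := by
  have := Fact.mk hp
  have hA : IsPGroup p ↥A := IsPGroup.of_card hcard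
  rw [Nat.coprime_comm, Nat.Prime.coprime_iff_not_dvd hp]
  intro hdvd
  have h1 : (1 : G₀) ∈ MulAction.fixedPoints ↥A G₀ := by
    intro a
    show (a : MulAut G₀) 1 = 1
    exact map_one _
  obtain ⟨b, hb, hne⟩ := hA.exists_fixed_point_of_prime_dvd_card_of_fixed_point G₀ hdvd h1
  apply hne
  symm
  apply hfpf b
  intro a ha
  exact hb ⟨a, ha⟩

theorem ward_abstract {G₀ : Type u} [Group G₀] [Finite G₀] (hsolv : Group.IsSolvable G₀) {p : ℕ}
    (hp : p.Prime) (A : Subgroup (MulAut G₀)) (hcomm : ∀ a ∈ A, ∀ b ∈ A, a * b = b * a)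
    (hexp : ∀ a ∈ A, a ^ p = 1) (hcard : Nat.card A = p ^ 2)
    (hfpf : ∀ g : G₀, (∀ a ∈ A, a g = g) → g = 1) :
    ∃ N : Subgroup G₀, N.Normal ∧ (∃ k, N.lowerCentralSeries k = ⊥) ∧
      ∃ k, (⊤ : Subgroup G₀).lowerCentralSeries k ≤ N := by
  obtain ⟨φ, hφ⟩ : ∃ φ : ↥A →* MulAut G₀, φ = A.subtype := ⟨_, rfl⟩
  have hφa : ∀ (a : ↥A) (n : G₀), φ a n = (a : MulAut G₀) n := by
    intro a n; rw [hφ]; rfl
  have hfinA : Finite ↥A := by
    apply Nat.finite_of_card_ne_zero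
    rw [hcard]; exact pow_ne_zero _ hp.pos.ne'
  have hfinΓ : Finite (G₀ ⋊[φ] ↥A) := Finite.of_equiv _ (SemidirectProduct.equivProd).symm
  have hGn : ((inl : G₀ →* G₀ ⋊[φ] ↥A).range).Normal := by
    rw [SemidirectProduct.range_inl_eq_ker_rightHom]
    infer_instance
  have hgood : Good p (inr : ↥A →* G₀ ⋊[φ] ↥A).range (inl : G₀ →* G₀ ⋊[φ] ↥A).range := by
    refine ⟨⟨hp, ?_, ?_, ?_⟩, hGn, ?_, ?_, ?_⟩
    · rintro _ ⟨a, rfl⟩ _ ⟨b, rfl⟩
      rw [← map_mul, ← map_mul]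
      congr 1
      exact Subtype.ext (hcomm a.1 a.2 b.1 b.2)
    · rintro _ ⟨a, rfl⟩
      rw [← map_pow]
      have : a ^ p = 1 := Subtype.ext (by simpa using hexp a.1 a.2)
      rw [this, map_one]
    · rw [← hcard]
      exact Nat.card_congr (MonoidHom.ofInjective inr_injective).toEquiv.symm
    · have e : Nat.card ↥((inl : G₀ →* G₀ ⋊[φ] ↥A).range) = Nat.card G₀ :=
        Nat.card_congr (MonoidHom.ofInjective inl_injective).toEquiv.symm
      rw [e]
      exact coprime_of_fpf hp A hcard hfpf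
    · exact Group.isSolvable_of_surjective
        (MonoidHom.ofInjective (inl_injective (φ := φ))).surjective
    · rintro _ ⟨n, rfl⟩ hfix
      have h1 : n = 1 := by
        apply hfpf n
        intro a ha
        have h2 := hfix (inr ⟨a, ha⟩) ⟨⟨a, ha⟩, rfl⟩
        have h3 : (inl (φ ⟨a, ha⟩ n) : G₀ ⋊[φ] ↥A) = inl n := by
          rw [inl_aut, h2, mul_assoc, ← map_mul, mul_inv_cancel, map_one, mul_one]
        have h4 := inl_injective h3
        rw [hφa] at h4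
        exact h4
      rw [h1, map_one]
  obtain ⟨k, hk⟩ := metanil hgood
  have hFn := fitOf_normal (inl : G₀ →* G₀ ⋊[φ] ↥A).range
  refine ⟨(Cfsg.fittingOf (inl : G₀ →* G₀ ⋊[φ] ↥A).range).comap inl, ?_, ?_, ⟨k, ?_⟩⟩
  · exact hFn.comap _
  · rw [← Subgroup.isNilpotent_iff_lowerCentralSeries]
    have h1 : ((Cfsg.fittingOf (inl : G₀ →* G₀ ⋊[φ] ↥A).range).comap inl).map
        (inl : G₀ →* G₀ ⋊[φ] ↥A) = Cfsg.fittingOf (inl : G₀ →* G₀ ⋊[φ] ↥A).range := by
      rw [Subgroup.map_comap_eq, inf_eq_right]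
      exact fitOf_le _
    have h2 : Group.IsNilpotent ↥(((Cfsg.fittingOf (inl : G₀ →* G₀ ⋊[φ] ↥A).range).comap inl).map
        (inl : G₀ →* G₀ ⋊[φ] ↥A)) := by
      rw [h1]; exact fitOf_nilpotent _
    exact (Group.isNilpotent_congr (Subgroup.equivMapOfInjective _ _ inl_injective)).mpr h2
  · rw [← Subgroup.map_le_iff_le_comap, Subgroup.map_lowerCentralSeries, ← MonoidHom.range_eq_map]
    exact hk

end Cfsg.Agent.Lib.Helper1.Ward
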